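import Cfsg.Agent.Lib.PLocal.Thompson

/-!
Pushing up over a group `M` whose quotient by a normal 2-subgroup `Q` is dihedral of twice odd
order: the module `V = Ω₁(Z(Q))`.
-/

set_option autoImplicit false

open Subgroup
open scoped Pointwise commutatorElement

namespace CfsgLib.DihedralPush

variable {G : Type*} [Group G] [Finite G]

theorem exists_pow_self {x : G} (hx : Odd (orderOf x)) (j : ℕ) : ∃ m : ℕ, (x ^ (2 ^ j)) ^ m = x :=
  exists_pow_eq_self_of_coprime ((Nat.coprime_two_left.mpr hx).pow_left j)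

theorem commute_of_pow_two {x v : G} (hx : Odd (orderOf x)) {j : ℕ} (h : Commute (x ^ (2 ^ j)) v) :
    Commute x v := by
  obtain ⟨m, hm⟩ := exists_pow_self hx j
  rw [← hm]
  exact h.pow_left m

theorem commute_of_sq {x v : G} (hx : Odd (orderOf x)) (h : Commute (x ^ 2) v) : Commute x v :=
  commute_of_pow_two hx (j := 1) (by rwa [pow_one])

/-- An element of odd order stabilizing a series of a 2-group fixes it. -/
theorem stable {x v w : G} (hx : Odd (orderOf x)) (h : x * v * x⁻¹ = w * v) (hxw : Commute x w)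
    (hw : ∃ j : ℕ, w ^ (2 ^ j) = 1) : w = 1 := by
  have hp : ∀ n : ℕ, x ^ n * v * (x ^ n)⁻¹ = w ^ n * v := by
    intro n
    induction n with
    | zero => simp
    | succ n ih =>
      rw [pow_succ', show x * x ^ n * v * (x * x ^ n)⁻¹ = x * (x ^ n * v * (x ^ n)⁻¹) * x⁻¹ by group,
        ih, ← mul_assoc, (hxw.pow_right n).eq, mul_assoc, mul_assoc, ← mul_assoc x v, h, ← mul_assoc,
        ← pow_succ]
  have h1 := hp (orderOf x)
  rw [pow_orderOf_eq_one, one_mul, inv_one, mul_one] at h1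
  have h2 : w ^ orderOf x = 1 := (right_eq_mul.mp h1)
  obtain ⟨j, hj⟩ := hw
  exact orderOf_eq_one_iff.mp (Nat.eq_one_of_dvd_coprimes ((Nat.coprime_two_left.mpr hx).pow_left j).symm
    (orderOf_dvd_of_pow_eq_one h2) (orderOf_dvd_of_pow_eq_one hj))

theorem mem_normalizer_of {x : G} {S : Subgroup G} (h : ∀ s ∈ S, x * s * x⁻¹ ∈ S) :
    x ∈ normalizer (S : Set G) :=
  mem_normalizer_fintype h

theorem conj_mem {x s : G} {S : Subgroup G} (hx : x ∈ normalizer (S : Set G)) (hs : s ∈ S) :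
    x * s * x⁻¹ ∈ S :=
  (mem_normalizer_iff.mp hx s).mp hs

theorem conj_mem' {x s : G} {S : Subgroup G} (hx : x ∈ normalizer (S : Set G)) (hs : s ∈ S) :
    x⁻¹ * s * x ∈ S := by
  simpa using conj_mem (inv_mem hx) hs

theorem exists_pow_two {S : Subgroup G} (hS : IsPGroup 2 S) {x : G} (hx : x ∈ S) :
    ∃ j : ℕ, x ^ (2 ^ j) = 1 := by
  obtain ⟨j, hj⟩ := hS ⟨x, hx⟩
  exact ⟨j, by simpa using congrArg Subtype.val hj⟩

theorem eq_one_of_odd_of_pow_two {x : G} (hx : Odd (orderOf x)) {j : ℕ} (h : x ^ (2 ^ j) = 1) : x = 1 :=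
  orderOf_eq_one_iff.mp (Nat.eq_one_of_dvd_coprimes ((Nat.coprime_two_left.mpr hx).pow_left j).symm
    dvd_rfl (orderOf_dvd_of_pow_eq_one h))

/-- An element of odd order acting on a 2-subgroup as an inner automorphism centralizes it. -/
theorem commute_of_inner {c q : G} {Q : Subgroup G} (hQ : IsPGroup 2 Q) (hq : q ∈ Q)
    (hc : Odd (orderOf c)) (h : ∀ x ∈ Q, c * x * c⁻¹ = q * x * q⁻¹) : ∀ x ∈ Q, Commute c x := by
  intro x hx
  have hcq : Commute c q := by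
    have h1 := h q hq
    rw [mul_inv_cancel_right] at h1
    exact mul_inv_eq_iff_eq_mul.mp h1
  have hu : Commute (q⁻¹ * c) x := by
    show q⁻¹ * c * x = x * (q⁻¹ * c)
    calc q⁻¹ * c * x = q⁻¹ * (c * x * c⁻¹) * c := by group
      _ = x * (q⁻¹ * c) := by rw [h x hx]; group
  obtain ⟨j, hj⟩ := exists_pow_two hQ hq
  refine commute_of_pow_two hc (j := j) ?_
  have h2 := hu.pow_left (2 ^ j)
  rw [hcq.symm.inv_left.mul_pow, inv_pow, hj, inv_one, one_mul] at h2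
  exact h2

theorem card_mul_card_le {A B V : Subgroup G} (hA : A ≤ V) (hB : B ≤ V) :
    Nat.card A * Nat.card B ≤ Nat.card V * Nat.card ↥(A ⊓ B) := by
  have h1 := relIndex_mul_relIndex ⊥ A V bot_le hA
  rw [relIndex_bot_left, relIndex_bot_left] at h1
  have h2 := relIndex_mul_relIndex ⊥ (A ⊓ B) B bot_le inf_le_right
  rw [relIndex_bot_left, relIndex_bot_left, inf_relIndex_right] at h2
  have h3 : A.relIndex B ≤ A.relIndex V := relIndex_le_of_le_right hB (fun h0 => by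
    rw [h0, mul_zero] at h1
    exact (Nat.card_pos (α := ↥V)).ne h1)
  calc Nat.card A * Nat.card B = Nat.card A * (Nat.card ↥(A ⊓ B) * A.relIndex B) := by rw [h2]
    _ ≤ Nat.card A * (Nat.card ↥(A ⊓ B) * A.relIndex V) :=
        Nat.mul_le_mul_left _ (Nat.mul_le_mul_left _ h3)
    _ = Nat.card A * A.relIndex V * Nat.card ↥(A ⊓ B) := by ring
    _ = Nat.card V * Nat.card ↥(A ⊓ B) := by rw [h1]

theorem two_mul_card_le {A B : Subgroup G} (h : A ≤ B) (hne : A ≠ B) :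
    2 * Nat.card A ≤ Nat.card B := by
  have h1 := relIndex_mul_relIndex ⊥ A B bot_le h
  rw [relIndex_bot_left, relIndex_bot_left] at h1
  have h2 : A.relIndex B ≠ 1 := fun h2 => hne (le_antisymm h (relIndex_eq_one.mp h2))
  have h3 : A.relIndex B ≠ 0 := fun h3 => by
    rw [h3, mul_zero] at h1
    exact (Nat.card_pos (α := ↥B)).ne h1
  rw [← h1, mul_comm 2]
  exact Nat.mul_le_mul_left _ (by omega)

/-- `Ω₁(Z(X))` for the prime 2. -/
def omC (X : Subgroup G) : Subgroup G := Cfsg.omegaOne 2 (X ⊓ centralizer (X : Set G))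

theorem mem_omC {X : Subgroup G} {x : G} :
    x ∈ omC X ↔ x ∈ X ∧ (∀ y ∈ X, Commute x y) ∧ x ^ 2 = 1 := by
  constructor
  · intro h
    have h1 := CfsgLib.PLocal.omegaOne_le 2 _ h
    exact ⟨h1.1, fun y hy => ((mem_centralizer_iff.mp h1.2) y hy).symm,
      (CfsgLib.PLocal.omegaCenter_isEA X).2 x h⟩
  · rintro ⟨h1, h2, h3⟩
    exact CfsgLib.PLocal.mem_omegaOne ⟨h1, mem_centralizer_iff.mpr fun y hy => (h2 y hy).symm⟩ h3

theorem omC_le (X : Subgroup G) : omC X ≤ X := fun _ h => (mem_omC.mp h).1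

theorem normalizer_le_normalizer_omC {X : Subgroup G} {g : G} (hg : g ∈ normalizer (X : Set G)) :
    g ∈ normalizer (omC X : Set G) := by
  refine mem_normalizer_of fun s hs => ?_
  obtain ⟨h1, h2, h3⟩ := mem_omC.mp hs
  refine mem_omC.mpr ⟨conj_mem hg h1, fun y hy => ?_, by rw [conj_pow, h3, mul_one, mul_inv_cancel]⟩
  have h := (h2 _ (conj_mem' hg hy)).eq
  show g * s * g⁻¹ * y = y * (g * s * g⁻¹)
  calc g * s * g⁻¹ * y = g * (s * (g⁻¹ * y * g)) * g⁻¹ := by group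
    _ = g * ((g⁻¹ * y * g) * s) * g⁻¹ := by rw [h]
    _ = y * (g * s * g⁻¹) := by group

/-- The setting. -/
structure Push (M P Q : Subgroup G) (c y : G) : Prop where
  hP : IsPGroup 2 P
  hPM : P ≤ M
  hQP : Q ≤ P
  hQn : M ≤ normalizer (Q : Set G)
  hcM : c ∈ M
  hodd : Odd (orderOf c)
  hidx : Q.relIndex P = 2
  hinv : ∀ t ∈ P, t ∉ Q → t * c * t⁻¹ * c ∈ Q
  hdec : ∀ m ∈ M, ∃ k : ℤ, ∃ u ∈ P, m = c ^ k * u
  hy : y ∈ normalizer (P : Set G)
  hcore : ∀ N : Subgroup G, N ≤ P → M ≤ normalizer (N : Set G) → y ∈ normalizer (N : Set G) → N = ⊥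
  hdisj : ∀ v ∈ P, v ∈ centralizer (M : Set G) → y * v * y⁻¹ ∈ centralizer (M : Set G) → v = 1
  hne : Q ≠ ⊥

variable {M P Q : Subgroup G} {c y : G}

namespace Push

theorem cQ (h : Push M P Q c y) : c ∈ normalizer (Q : Set G) := h.hQn h.hcM

theorem pQ (h : Push M P Q c y) {t : G} (ht : t ∈ P) : t ∈ normalizer (Q : Set G) := h.hQn (h.hPM ht)

theorem isPGroupQ (h : Push M P Q c y) : IsPGroup 2 Q := h.hP.to_le h.hQP

theorem exists_t (h : Push M P Q c y) : ∃ t ∈ P, t ∉ Q := by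
  by_contra! hall
  have := h.hidx
  rw [relIndex_eq_one.mpr hall] at this
  norm_num at this

theorem mul_inv_mem (h : Push M P Q c y) {t u : G} (ht : t ∈ P) (htQ : t ∉ Q) (hu : u ∈ P)
    (huQ : u ∉ Q) : u * t⁻¹ ∈ Q := by
  have hi : (Q.subgroupOf P).index = 2 := h.hidx
  have := (mul_mem_iff_of_index_two hi (a := ⟨u, hu⟩) (b := ⟨t, ht⟩⁻¹)).mpr
    (iff_of_false (fun hh => huQ (mem_subgroupOf.mp hh))
      (fun hh => htQ (mem_subgroupOf.mp (inv_mem_iff.mp hh))))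
  simpa [mem_subgroupOf] using this

theorem card_P (h : Push M P Q c y) : Nat.card P = 2 * Nat.card Q := by
  have h1 := relIndex_mul_relIndex ⊥ Q P bot_le h.hQP
  rw [relIndex_bot_left, relIndex_bot_left, h.hidx] at h1
  omega

theorem eq_one_of_zpow_mem (h : Push M P Q c y) {k : ℤ} (hk : c ^ k ∈ P) : c ^ k = 1 := by
  obtain ⟨j, hj⟩ := exists_pow_two h.hP hk
  refine eq_one_of_odd_of_pow_two ?_ hj
  exact Odd.of_dvd_nat h.hodd (orderOf_dvd_of_mem_zpowers ⟨k, rfl⟩)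

theorem mem_centralizer_M (h : Push M P Q c y) {v : G} (hvc : Commute c v)
    (hvP : ∀ u ∈ P, Commute u v) : v ∈ centralizer (M : Set G) := by
  refine mem_centralizer_iff.mpr fun m hm => ?_
  obtain ⟨k, u, hu, rfl⟩ := h.hdec m hm
  exact ((hvc.zpow_left k).mul_left (hvP u hu)).eq

/-- `t` and its `c`-conjugate generate `c` modulo `Q`. -/
theorem commute_c (h : Push M P Q c y) {t v : G} (ht : t ∈ P) (htQ : t ∉ Q) (h1 : Commute t v)
    (h2 : Commute (c * t * c⁻¹) v) (hQv : ∀ q ∈ Q, Commute q v) : Commute c v := by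
  have hq := h.hinv t ht htQ
  have he : c ^ 2 = (c * t * c⁻¹) * t⁻¹ * (t * c * t⁻¹ * c) := by rw [sq]; group
  refine commute_of_sq h.hodd ?_
  rw [he]
  exact (h2.mul_left h1.inv_left).mul_left (hQv _ hq)

/-- If `c` does not centralize `Q`, the centre of `P` lies in `Q`. -/
theorem mem_Q_of_central (h : Push M P Q c y) (hnc : ¬ ∀ x ∈ Q, Commute c x) {z : G} (hz : z ∈ P)
    (hzc : ∀ u ∈ P, Commute z u) : z ∈ Q := by
  by_contra hzQ
  apply hnc
  have hq := h.hinv z hz hzQ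
  set q := z * c * z⁻¹ * c with hqdef
  have key : ∀ x ∈ Q, c ^ 2 * x * (c ^ 2)⁻¹ = q * x * q⁻¹ := by
    intro x hx
    have hx' : c * x * c⁻¹ ∈ Q := conj_mem h.cQ hx
    have h1 : Commute z (c * (c * x * c⁻¹) * c⁻¹) := hzc _ (h.hQP (conj_mem h.cQ hx'))
    have h2 : Commute z (c * x * c⁻¹) := hzc _ (h.hQP hx')
    calc c ^ 2 * x * (c ^ 2)⁻¹ = c * (c * x * c⁻¹) * c⁻¹ := by rw [sq]; group
      _ = z * (c * (c * x * c⁻¹) * c⁻¹) * z⁻¹ := by rw [h1.eq, mul_inv_cancel_right]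
      _ = z * c * (z⁻¹ * (z * (c * x * c⁻¹))) * c⁻¹ * z⁻¹ := by group
      _ = z * c * (z⁻¹ * ((c * x * c⁻¹) * z)) * c⁻¹ * z⁻¹ := by rw [h2.eq]
      _ = q * x * q⁻¹ := by rw [hqdef]; group
  have hodd2 : Odd (orderOf (c ^ 2)) :=
    Odd.of_dvd_nat h.hodd (orderOf_dvd_of_mem_zpowers (pow_mem (mem_zpowers c) 2))
  exact fun x hx => commute_of_sq h.hodd (commute_of_inner h.isPGroupQ hq hodd2 key x hx)

/-- The module. -/
abbrev V (_h : Push M P Q c y) : Subgroup G := omC Q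

/-- Its fixed points under `P`. -/
abbrev Z (_h : Push M P Q c y) : Subgroup G := omC P

/-- Its fixed points under `M`. -/
abbrev V0 (_h : Push M P Q c y) : Subgroup G := omC Q ⊓ centralizer (M : Set G)

theorem commute_V (h : Push M P Q c y) {v q : G} (hv : v ∈ h.V) (hq : q ∈ Q) : Commute q v :=
  ((mem_omC.mp hv).2.1 q hq).symm

theorem V_comm (h : Push M P Q c y) {v w : G} (hv : v ∈ h.V) (hw : w ∈ h.V) : Commute v w :=
  (mem_omC.mp hv).2.1 w (omC_le _ hw)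

theorem cV (h : Push M P Q c y) : c ∈ normalizer (h.V : Set G) := normalizer_le_normalizer_omC h.cQ

theorem pV (h : Push M P Q c y) {u : G} (hu : u ∈ P) : u ∈ normalizer (h.V : Set G) :=
  normalizer_le_normalizer_omC (h.pQ hu)

theorem pow_two_V (h : Push M P Q c y) {v : G} (hv : v ∈ h.V) : ∃ j : ℕ, v ^ (2 ^ j) = 1 :=
  ⟨1, by rw [pow_one]; exact (mem_omC.mp hv).2.2⟩

theorem Z_le_V (h : Push M P Q c y) (hnc : ¬ ∀ x ∈ Q, Commute c x) : h.Z ≤ h.V := fun z hz => by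
  obtain ⟨h1, h2, h3⟩ := mem_omC.mp hz
  exact mem_omC.mpr ⟨h.mem_Q_of_central hnc h1 h2, fun q hq => h2 q (h.hQP hq), h3⟩

theorem mem_Z (h : Push M P Q c y) {t v : G} (ht : t ∈ P) (htQ : t ∉ Q) (hv : v ∈ h.V)
    (hc : Commute t v) : v ∈ h.Z := by
  refine mem_omC.mpr ⟨h.hQP (omC_le _ hv), fun u hu => ?_, (mem_omC.mp hv).2.2⟩
  by_cases huQ : u ∈ Q
  · exact (h.commute_V hv huQ).symm
  · rw [show u = u * t⁻¹ * t by group]
    exact (Commute.mul_left (h.commute_V hv (h.mul_inv_mem ht htQ hu huQ)) hc).symm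

theorem V0_le_Z (h : Push M P Q c y) : h.V0 ≤ h.Z := fun v hv =>
  mem_omC.mpr ⟨h.hQP (omC_le _ hv.1),
    fun u hu => ((mem_centralizer_iff.mp hv.2) u (h.hPM hu)).symm, (mem_omC.mp hv.1).2.2⟩

theorem exists_small_fixed (h : Push M P Q c y) (hnc : ¬ ∀ x ∈ Q, Commute c x) :
    Nat.card h.V ≤ 2 * Nat.card h.Z := by
  by_cases hall : ∀ A ∈ CfsgLib.PLocal.maxEAIn 2 P, A ≤ Q
  · exfalso
    obtain ⟨A, hA⟩ := CfsgLib.PLocal.exists_maxEAIn 2 P
    have hJ : Cfsg.thompsonSubgroupOf 2 P ≤ Q := by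
      rw [CfsgLib.PLocal.thompsonSubgroupOf_eq]
      exact sSup_le hall
    have heq : Cfsg.thompsonSubgroupOf 2 Q = Cfsg.thompsonSubgroupOf 2 P := by
      refine le_antisymm (CfsgLib.PLocal.thompsonSubgroupOf_le_of_mem h.hQP hA (hall A hA)) ?_
      rw [CfsgLib.PLocal.thompsonSubgroupOf_eq, CfsgLib.PLocal.thompsonSubgroupOf_eq]
      exact sSup_le_sSup fun B hB => CfsgLib.PLocal.mem_maxEAIn_of_le h.hQP hB (hall B hB)
    have h0 := h.hcore _ (CfsgLib.PLocal.thompsonSubgroupOf_le 2 P)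
      (heq ▸ h.hQn.trans (CfsgLib.PLocal.normalizer_le_normalizer_thompsonSubgroupOf Q))
      (CfsgLib.PLocal.normalizer_le_normalizer_thompsonSubgroupOf P h.hy)
    have hA0 : A = ⊥ := by
      rw [eq_bot_iff, ← h0, CfsgLib.PLocal.thompsonSubgroupOf_eq]
      exact le_sSup hA
    have hQne : Nontrivial ↥Q := (nontrivial_iff_ne_bot _).mpr h.hne
    haveI : Fact (Nat.Prime 2) := ⟨Nat.prime_two⟩
    obtain ⟨x, hx⟩ := exists_prime_orderOf_dvd_card' (G := ↥Q) 2 (h.isPGroupQ.card_eq_or_dvd.resolve_left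
      (Finite.one_lt_card (α := ↥Q)).ne')
    have hxA := CfsgLib.PLocal.mem_maxEAIn_of_centralizing hA (x := (x : G)) (h.hQP x.2)
      (by rw [hA0]; exact mem_centralizer_iff.mpr fun w hw => by rw [mem_bot.mp hw, one_mul, mul_one])
      (by rw [← SubgroupClass.coe_pow, ← hx, pow_orderOf_eq_one]; rfl)
    rw [hA0, mem_bot, OneMemClass.coe_eq_one] at hxA
    rw [hxA, orderOf_one] at hx
    norm_num at hx
  · push Not at hall
    obtain ⟨A, hA, hAQ⟩ := hall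
    obtain ⟨s, hsA, hsQ⟩ := SetLike.not_le_iff_exists.mp hAQ
    have hsP : s ∈ P := hA.1 hsA
    set A0 := A ⊓ Q with hA0
    have hVQ : h.V ≤ Q := omC_le _
    have hEA : Cfsg.IsElementaryAbelian 2 (h.V ⊔ A0 : Subgroup G) :=
      CfsgLib.PLocal.isEA_sup (CfsgLib.PLocal.omegaCenter_isEA Q)
        (CfsgLib.PLocal.isEA_mono hA.2.1 inf_le_left)
        (fun v hv => mem_centralizer_iff.mpr fun a ha => (h.commute_V hv ha.2).eq)
    have hle := hA.2.2 _ (sup_le (hVQ.trans h.hQP) (inf_le_left.trans hA.1)) hEA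
    have hi : A0.relIndex A ≤ 2 := by
      rw [hA0, inf_relIndex_left]
      calc Q.relIndex A ≤ Q.relIndex P := relIndex_le_of_le_right hA.1 (by rw [h.hidx]; norm_num)
        _ = 2 := h.hidx
    have hcA := relIndex_mul_relIndex ⊥ A0 A bot_le inf_le_left
    rw [relIndex_bot_left, relIndex_bot_left] at hcA
    have hprod : Nat.card h.V * Nat.card A0 ≤ Nat.card ↥(h.V ⊔ A0) * Nat.card ↥(h.V ⊓ A0) :=
      card_mul_card_le le_sup_left le_sup_right
    have hVA : h.V ⊓ A0 ≤ h.Z := fun v hv => h.mem_Z hsP hsQ hv.1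
      (CfsgLib.PLocal.commute_of_mem_comm hA.2.1.1 hsA hv.2.1)
    have hle2 : Nat.card ↥(h.V ⊓ A0) ≤ Nat.card h.Z := card_le_of_le hVA
    have h2 : Nat.card ↥(h.V ⊔ A0) ≤ 2 * Nat.card A0 := by
      calc Nat.card ↥(h.V ⊔ A0) ≤ Nat.card A := hle
        _ = Nat.card A0 * A0.relIndex A := hcA.symm
        _ ≤ Nat.card A0 * 2 := Nat.mul_le_mul_left _ hi
        _ = 2 * Nat.card A0 := mul_comm _ _
    refine Nat.le_of_mul_le_mul_right ?_ (Nat.card_pos (α := ↥A0))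
    calc Nat.card h.V * Nat.card A0 ≤ Nat.card ↥(h.V ⊔ A0) * Nat.card ↥(h.V ⊓ A0) := hprod
      _ ≤ (2 * Nat.card A0) * Nat.card h.Z := Nat.mul_le_mul h2 hle2
      _ = 2 * Nat.card h.Z * Nat.card A0 := by ring

theorem Z_ne_bot (h : Push M P Q c y) : h.Z ≠ ⊥ := by
  haveI : Fact (Nat.Prime 2) := ⟨Nat.prime_two⟩
  haveI : Nontrivial ↥P := by
    rw [nontrivial_iff_ne_bot]
    exact fun hP => h.hne (le_bot_iff.mp (hP ▸ h.hQP))
  haveI := h.hP.center_nontrivial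
  obtain ⟨x, hx⟩ := exists_prime_orderOf_dvd_card' (G := ↥(center ↥P)) 2
    ((h.hP.to_subgroup _).card_eq_or_dvd.resolve_left (Finite.one_lt_card (α := ↥(center ↥P))).ne')
  intro hbot
  have hm : ((x : ↥P) : G) ∈ h.Z := by
    refine mem_omC.mpr ⟨(x : ↥P).2, fun u hu => ?_, ?_⟩
    · exact (congrArg Subtype.val (mem_center_iff.mp x.2 ⟨u, hu⟩)).symm
    · have := pow_orderOf_eq_one x
      rw [hx] at this
      simpa using congrArg (fun z : ↥(center ↥P) => ((z : ↥P) : G)) this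
  rw [hbot, mem_bot, OneMemClass.coe_eq_one, OneMemClass.coe_eq_one] at hm
  rw [hm, orderOf_one] at hx
  norm_num at hx

theorem not_Z_le_centralizer (h : Push M P Q c y) : ¬ h.Z ≤ centralizer (M : Set G) := fun hle =>
  h.Z_ne_bot (h.hcore _ (omC_le _)
    (fun m hm => mem_normalizer_of fun s hs => by
      rw [(mem_centralizer_iff.mp (hle hs)) m hm, mul_inv_cancel_right]; exact hs)
    (normalizer_le_normalizer_omC h.hy))

theorem mem_V0 (h : Push M P Q c y) (hnc : ¬ ∀ x ∈ Q, Commute c x) {v : G} (hv : v ∈ h.Z)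
    (hc : Commute c v) : v ∈ h.V0 :=
  ⟨h.Z_le_V hnc hv, h.mem_centralizer_M hc fun u hu => ((mem_omC.mp hv).2.1 u hu).symm⟩

theorem card_facts (h : Push M P Q c y) (hnc : ¬ ∀ x ∈ Q, Commute c x) :
    Nat.card h.Z = 2 * Nat.card h.V0 ∧ Nat.card h.V = 4 * Nat.card h.V0 ∧ Nat.card h.V0 ≤ 2 := by
  obtain ⟨t, ht, htQ⟩ := h.exists_t
  have hZV := h.Z_le_V hnc
  let Z' : Subgroup G := h.Z.map (MulAut.conj c).toMonoidHom
  have hZ'V : Z' ≤ h.V := by
    rintro _ ⟨z, hz, rfl⟩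
    exact conj_mem h.cV (hZV hz)
  have hinter : h.Z ⊓ Z' ≤ h.V0 := by
    rintro v ⟨hv, w, hw, hwv⟩
    have hwv' : c * w * c⁻¹ = v := hwv
    refine h.mem_V0 hnc hv (h.commute_c ht htQ ((mem_omC.mp hv).2.1 t ht).symm ?_
      fun q hq => h.commute_V (hZV hv) hq)
    rw [← hwv']
    exact (Commute.conj_iff c).mpr ((mem_omC.mp hw).2.1 t ht).symm
  have hcardZ' : Nat.card Z' = Nat.card h.Z := card_map_of_injective (MulAut.conj c).injective
  have h1 := card_mul_card_le hZV hZ'V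
  rw [hcardZ'] at h1
  have h2 := h.exists_small_fixed hnc
  have h3 : Nat.card ↥(h.Z ⊓ Z') ≤ Nat.card h.V0 := card_le_of_le hinter
  have hne : h.V0 ≠ h.Z := fun he => h.not_Z_le_centralizer (he ▸ inf_le_right)
  have h4 := two_mul_card_le h.V0_le_Z hne
  have h5 : Nat.card h.Z ≤ 2 * Nat.card h.V0 := by
    have h6 : Nat.card h.Z * Nat.card h.Z ≤ (2 * Nat.card h.V0) * Nat.card h.Z :=
      calc Nat.card h.Z * Nat.card h.Z ≤ Nat.card h.V * Nat.card ↥(h.Z ⊓ Z') := h1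
        _ ≤ (2 * Nat.card h.Z) * Nat.card h.V0 := Nat.mul_le_mul h2 h3
        _ = (2 * Nat.card h.V0) * Nat.card h.Z := by ring
    exact Nat.le_of_mul_le_mul_right h6 Nat.card_pos
  have hZ : Nat.card h.Z = 2 * Nat.card h.V0 := le_antisymm h5 h4
  have hVne : h.Z ≠ h.V := fun he => by
    have hZ'Z : Z' = h.Z := eq_of_le_of_card_ge (he ▸ hZ'V) hcardZ'.ge
    exact hne (le_antisymm h.V0_le_Z (by rw [hZ'Z, inf_idem] at hinter; exact hinter))
  have hV : Nat.card h.V = 4 * Nat.card h.V0 := by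
    have h7 := two_mul_card_le hZV hVne
    omega
  refine ⟨hZ, hV, ?_⟩
  let U : Subgroup G := h.V0.map (MulAut.conj y).toMonoidHom
  have hUZ : U ≤ h.Z := by
    rintro _ ⟨v, hv, rfl⟩
    exact conj_mem (normalizer_le_normalizer_omC h.hy) (h.V0_le_Z hv)
  have hbot : h.V0 ⊓ U = ⊥ := by
    rw [eq_bot_iff]
    rintro _ ⟨hv1, v, hv, rfl⟩
    have : v = 1 := h.hdisj v (omC_le _ (h.V0_le_Z hv)) hv.2 hv1.2
    rw [mem_bot, this, map_one]
  have h8 := card_mul_card_le h.V0_le_Z hUZ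
  rw [hbot, card_bot, mul_one, show Nat.card U = Nat.card h.V0 from
    card_map_of_injective (MulAut.conj y).injective, hZ] at h8
  exact Nat.le_of_mul_le_mul_right h8 Nat.card_pos

/-- The commutator map `v ↦ [c, v]` on the module. -/
theorem mul_comm_fix (h : Push M P Q c y) {a b : G} (ha : a ∈ h.V) (hb : b ∈ h.V) :
    c * (a * b) * c⁻¹ * (a * b)⁻¹ = (c * a * c⁻¹ * a⁻¹) * (c * b * c⁻¹ * b⁻¹) := by
  have h1 : Commute a⁻¹ (c * b * c⁻¹ * b⁻¹) :=
    h.V_comm (inv_mem ha) (mul_mem (conj_mem h.cV hb) (inv_mem hb))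
  calc c * (a * b) * c⁻¹ * (a * b)⁻¹ = c * a * c⁻¹ * ((c * b * c⁻¹ * b⁻¹) * a⁻¹) := by group
    _ = c * a * c⁻¹ * (a⁻¹ * (c * b * c⁻¹ * b⁻¹)) := by rw [h1.eq]
    _ = (c * a * c⁻¹ * a⁻¹) * (c * b * c⁻¹ * b⁻¹) := by group

/-- The homomorphism `v ↦ [c, v]`. -/
def fhom (h : Push M P Q c y) : ↥h.V →* G :=
  MonoidHom.mk' (fun v => c * (v : G) * c⁻¹ * (v : G)⁻¹) fun a b => h.mul_comm_fix a.2 b.2

/-- `W = [V, c]`. -/
def W (h : Push M P Q c y) : Subgroup G := h.fhom.range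

theorem mem_W (h : Push M P Q c y) {w : G} :
    w ∈ h.W ↔ ∃ v ∈ h.V, c * v * c⁻¹ * v⁻¹ = w :=
  ⟨fun ⟨v, hv⟩ => ⟨v, v.2, hv⟩, fun ⟨v, hv, e⟩ => ⟨⟨v, hv⟩, e⟩⟩

theorem W_le_V (h : Push M P Q c y) : h.W ≤ h.V := by
  rintro _ ⟨v, rfl⟩
  exact mul_mem (conj_mem h.cV v.2) (inv_mem v.2)

theorem mem_V0_of_commute (h : Push M P Q c y) (hnc : ¬ ∀ x ∈ Q, Commute c x) {v : G} (hv : v ∈ h.V)
    (hc : Commute c v) : v ∈ h.V0 := by
  obtain ⟨hZ, hV, -⟩ := h.card_facts hnc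
  let S : Subgroup G := h.V ⊓ centralizer {c}
  have hvS : v ∈ S := ⟨hv, mem_centralizer_singleton_iff.mpr hc.symm.eq⟩
  have hS0 : h.V0 ≤ S := fun u hu => ⟨hu.1, mem_centralizer_singleton_iff.mpr
    ((mem_centralizer_iff.mp hu.2) c h.hcM).symm⟩
  by_contra hv0
  have hne : h.V0 ≠ S := fun he => hv0 (he ▸ hvS)
  have h1 := two_mul_card_le hS0 hne
  have hfix : ∀ {u}, u ∈ S → Commute c u := fun hu => (mem_centralizer_singleton_iff.mp hu.2).symm
  have hall : ∀ u ∈ h.V, Commute c u := by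
    intro u hu
    by_cases huS : u ∈ S
    · exact hfix huS
    have h2 := relIndex_mul_relIndex ⊥ S h.V bot_le inf_le_left
    rw [relIndex_bot_left, relIndex_bot_left, hV] at h2
    have hi : S.relIndex h.V ≤ 2 :=
      Nat.le_of_mul_le_mul_left (show Nat.card S * S.relIndex h.V ≤ Nat.card S * 2 by omega) Nat.card_pos
    have hi1 : S.relIndex h.V ≠ 1 := fun e => huS (relIndex_eq_one.mp e hu)
    have hi0 : S.relIndex h.V ≠ 0 := fun e => by
      rw [e, mul_zero] at h2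
      have := Nat.card_pos (α := ↥h.V0)
      omega
    have hidx : (S.subgroupOf h.V).index = 2 := by
      show S.relIndex h.V = 2
      omega
    have hcu : c * u * c⁻¹ ∉ S := fun hh => huS (by
      have hh2 := (hfix hh).eq
      have e : c * u * c⁻¹ = u := mul_left_cancel (a := c) (hh2.trans (by group))
      rwa [e] at hh)
    have hm := (mul_mem_iff_of_index_two hidx (a := ⟨c * u * c⁻¹, conj_mem h.cV hu⟩)
      (b := ⟨u, hu⟩⁻¹)).mpr (iff_of_false (fun e => hcu (mem_subgroupOf.mp e))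
        (fun e => huS (mem_subgroupOf.mp (inv_mem_iff.mp e))))
    have hw : c * u * c⁻¹ * u⁻¹ ∈ S := by simpa [mem_subgroupOf] using hm
    have he : c * u * c⁻¹ = c * u * c⁻¹ * u⁻¹ * u := by group
    have := stable h.hodd he (hfix hw) (h.pow_two_V hw.1)
    show c * u = u * c
    exact mul_inv_eq_iff_eq_mul.mp (mul_inv_eq_one.mp this)
  apply h.not_Z_le_centralizer
  exact fun z hz => (h.mem_V0 hnc hz (hall z (h.Z_le_V hnc hz))).2

theorem card_W (h : Push M P Q c y) (hnc : ¬ ∀ x ∈ Q, Commute c x) : Nat.card h.W = 4 := by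
  obtain ⟨-, hV, -⟩ := h.card_facts hnc
  have hk : h.fhom.ker = h.V0.subgroupOf h.V := by
    ext v
    rw [MonoidHom.mem_ker, mem_subgroupOf]
    constructor
    · exact fun e => h.mem_V0_of_commute hnc v.2
        (mul_inv_eq_iff_eq_mul.mp (mul_inv_eq_one.mp e))
    · intro e
      show c * (v : G) * c⁻¹ * (v : G)⁻¹ = 1
      rw [(mem_centralizer_iff.mp e.2) c h.hcM, mul_inv_cancel_right, mul_inv_cancel]
  have h1 := card_eq_card_quotient_mul_card_subgroup h.fhom.ker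
  rw [Nat.card_congr (QuotientGroup.quotientKerEquivRange h.fhom).toEquiv, hV, hk,
    Nat.card_congr (subgroupOfEquivOfLe (inf_le_left : h.V0 ≤ h.V)).toEquiv] at h1
  exact (Nat.eq_of_mul_eq_mul_right Nat.card_pos h1).symm

theorem W_inf_V0 (h : Push M P Q c y) {w : G} (hw : w ∈ h.W) (hw0 : Commute c w) : w = 1 := by
  obtain ⟨v, hv, rfl⟩ := h.mem_W.mp hw
  exact stable h.hodd (v := v) (by group) hw0 (h.pow_two_V (h.W_le_V hw))

theorem cW (h : Push M P Q c y) : c ∈ normalizer (h.W : Set G) := mem_normalizer_of fun w hw => by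
  obtain ⟨v, hv, rfl⟩ := h.mem_W.mp hw
  exact h.mem_W.mpr ⟨c * v * c⁻¹, conj_mem h.cV hv, by group⟩

theorem exists_W (h : Push M P Q c y) (hnc : ¬ ∀ x ∈ Q, Commute c x) :
    ∃ w ∈ h.W, w ≠ 1 ∧ c * w * c⁻¹ ≠ 1 ∧ c * w * c⁻¹ ≠ w ∧
      c * (c * w * c⁻¹) * c⁻¹ = w * (c * w * c⁻¹) ∧
      ∀ x ∈ h.W, x = 1 ∨ x = w ∨ x = c * w * c⁻¹ ∨ x = w * (c * w * c⁻¹) := by
  have h4 := h.card_W hnc
  obtain ⟨w, hw, hw1⟩ := (bot_or_exists_ne_one h.W).resolve_left fun e => by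
    rw [e, card_bot] at h4
    norm_num at h4
  set u := c * w * c⁻¹ with hu
  have huW : u ∈ h.W := conj_mem h.cW hw
  have hu1 : u ≠ 1 := fun e => hw1 (by
    rw [hu, mul_inv_eq_one] at e
    exact mul_eq_left.mp e)
  have huw : u ≠ w := fun e => hw1 (h.W_inf_V0 hw (mul_inv_eq_iff_eq_mul.mp e))
  have hsq : ∀ {a}, a ∈ h.W → a * a = 1 := fun ha => by
    rw [← sq]; exact (mem_omC.mp (h.W_le_V ha)).2.2
  have hwu : w * u ≠ 1 := fun e => huw (mul_left_cancel (e.trans (hsq hw).symm))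
  let f : Fin 4 → ↥h.W := ![1, ⟨w, hw⟩, ⟨u, huW⟩, ⟨w * u, mul_mem hw huW⟩]
  have hf : Function.Injective f := by
    intro i j hij
    have hij' := congrArg Subtype.val hij
    fin_cases i <;> fin_cases j <;> simp [f] at hij' ⊢ <;>
      first
      | exact hw1 hij' | exact hw1 hij'.symm | exact hu1 hij' | exact hu1 hij'.symm
      | exact hwu hij' | exact hwu hij'.symm | exact huw hij' | exact huw hij'.symm
  have hb := hf.bijective_of_nat_card_le (by rw [h4]; simp)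
  have hmem : ∀ x ∈ h.W, x = 1 ∨ x = w ∨ x = u ∨ x = w * u := by
    intro x hx
    obtain ⟨i, hi⟩ := hb.2 ⟨x, hx⟩
    have hi' := congrArg Subtype.val hi
    fin_cases i <;> simp [f] at hi' <;> simp [← hi']
  refine ⟨w, hw, hw1, hu1, huw, ?_, hmem⟩
  rcases hmem _ (conj_mem h.cW huW) with e | e | e | e
  · exfalso
    rw [mul_inv_eq_one] at e
    exact hu1 (mul_eq_left.mp e)
  · exfalso
    refine hw1 (h.W_inf_V0 hw (commute_of_sq h.hodd ?_))
    show c ^ 2 * w = w * c ^ 2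
    calc c ^ 2 * w = c * u * c⁻¹ * c ^ 2 := by rw [hu, sq]; group
      _ = w * c ^ 2 := by rw [e]
  · exfalso
    exact hu1 (h.W_inf_V0 huW (mul_inv_eq_iff_eq_mul.mp e))
  · exact e

theorem cube_W (h : Push M P Q c y) (hnc : ¬ ∀ x ∈ Q, Commute c x) {x : G} (hx : x ∈ h.W) :
    Commute (c ^ 3) x := by
  obtain ⟨w, hw, -, -, -, h2, hmem⟩ := h.exists_W hnc
  obtain ⟨u, hu⟩ : ∃ u, u = c * w * c⁻¹ := ⟨_, rfl⟩
  simp only [← hu] at h2 hmem
  have huW : u ∈ h.W := hu ▸ conj_mem h.cW hw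
  have hsq : ∀ {a}, a ∈ h.W → a * a = 1 := fun ha => by
    rw [← sq]; exact (mem_omC.mp (h.W_le_V ha)).2.2
  have hcw : Commute w u := h.V_comm (h.W_le_V hw) (h.W_le_V huW)
  have h3 : Commute (c ^ 3) w := by
    show c ^ 3 * w = w * c ^ 3
    have e : c * (w * u) * c⁻¹ = w := by
      calc c * (w * u) * c⁻¹ = (c * w * c⁻¹) * (c * u * c⁻¹) := by group
        _ = (u * u) * w := by rw [← hu, h2, hcw.eq, mul_assoc]
        _ = w := by rw [hsq huW, one_mul]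
    calc c ^ 3 * w = c * (c * (c * w * c⁻¹) * c⁻¹) * c⁻¹ * c ^ 3 := by
          simp only [pow_succ, pow_zero, one_mul]; group
      _ = c * (w * u) * c⁻¹ * c ^ 3 := by rw [← hu, h2]
      _ = w * c ^ 3 := by rw [e]
  have h3u : Commute (c ^ 3) u := by
    rw [hu]
    exact ((Commute.refl c).pow_left 3 |>.mul_right h3).mul_right ((Commute.refl c).pow_left 3).inv_right
  rcases hmem x hx with rfl | rfl | rfl | rfl
  exacts [Commute.one_right _, h3, h3u, h3.mul_right h3u]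

theorem cube_V (h : Push M P Q c y) (hnc : ¬ ∀ x ∈ Q, Commute c x) {v : G} (hv : v ∈ h.V) :
    Commute (c ^ 3) v := by
  have hW : c ^ 3 * v * (c ^ 3)⁻¹ * v⁻¹ ∈ h.W := by
    have e : c ^ 3 * v * (c ^ 3)⁻¹ * v⁻¹ =
        (c * (c ^ 2 * v * (c ^ 2)⁻¹) * c⁻¹ * (c ^ 2 * v * (c ^ 2)⁻¹)⁻¹) *
          ((c * (c * v * c⁻¹) * c⁻¹ * (c * v * c⁻¹)⁻¹) * (c * v * c⁻¹ * v⁻¹)) := by
      simp only [pow_succ', pow_zero, mul_one]
      group
    rw [e]
    exact mul_mem (h.mem_W.mpr ⟨_, conj_mem (pow_mem h.cV 2) hv, rfl⟩)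
      (mul_mem (h.mem_W.mpr ⟨_, conj_mem h.cV hv, rfl⟩) (h.mem_W.mpr ⟨v, hv, rfl⟩))
  have hodd3 : Odd (orderOf (c ^ 3)) :=
    Odd.of_dvd_nat h.hodd (orderOf_dvd_of_mem_zpowers (pow_mem (mem_zpowers c) 3))
  have := stable hodd3 (v := v) (w := c ^ 3 * v * (c ^ 3)⁻¹ * v⁻¹) (by group)
    (h.cube_W hnc hW) (h.pow_two_V (h.W_le_V hW))
  exact mul_inv_eq_iff_eq_mul.mp (mul_inv_eq_one.mp this)

end Push

end CfsgLib.DihedralPush
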