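import Cfsg.Agent.Lib.DihedralPush.Basic
import Cfsg.Agent.Lib.SimsChain.Basic
import Cfsg.Agent.Lib.Transfer.PGroup

/-!
The order of the Sylow subgroup in the dihedral pushing-up setting is 8 or 16.
-/

set_option autoImplicit false

open Subgroup
open scoped Pointwise commutatorElement

namespace CfsgLib.DihedralPush

variable {G : Type*} [Group G] [Finite G] {M P Q : Subgroup G} {c y : G}

/-- Conjugate of a subgroup. -/
abbrev cjS (g : G) (S : Subgroup G) : Subgroup G := S.map (MulAut.conj g).toMonoidHom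

theorem mem_cjS {g x : G} {S : Subgroup G} : x ∈ cjS g S ↔ g⁻¹ * x * g ∈ S := by
  rw [cjS, mem_map_equiv]
  simp

theorem conj_normalizer {g n : G} {S : Subgroup G} (h : g⁻¹ * n * g ∈ normalizer (S : Set G)) :
    n ∈ normalizer (cjS g S : Set G) := mem_normalizer_of fun s hs => by
  rw [mem_cjS] at hs ⊢
  have := conj_mem h hs
  rwa [show g⁻¹ * n * g * (g⁻¹ * s * g) * (g⁻¹ * n * g)⁻¹ = g⁻¹ * (n * s * n⁻¹) * g by group] at this

theorem commute_of_normalize {A B : Subgroup G} (hA : B ≤ normalizer (A : Set G))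
    (hB : A ≤ normalizer (B : Set G)) (hAB : A ⊓ B = ⊥) {a b : G} (ha : a ∈ A) (hb : b ∈ B) :
    Commute a b := by
  have h1 : a * b * a⁻¹ * b⁻¹ ∈ A ⊓ B := mem_inf.mpr
    ⟨by rw [show a * b * a⁻¹ * b⁻¹ = a * (b * a⁻¹ * b⁻¹) by group]
        exact mul_mem ha (conj_mem (hA hb) (inv_mem ha)),
      mul_mem (conj_mem (hB ha) hb) (inv_mem hb)⟩
  rw [hAB, mem_bot] at h1
  exact commutatorElement_eq_one_iff_commute.mp h1

theorem comm_pow_mem {x q : G} {A : Subgroup G} (hxA : x ∈ normalizer (A : Set G))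
    (h : x * q * x⁻¹ * q⁻¹ ∈ A) (n : ℕ) : x ^ n * q * (x ^ n)⁻¹ * q⁻¹ ∈ A := by
  induction n with
  | zero => simp
  | succ n ih =>
    rw [show x ^ (n + 1) * q * (x ^ (n + 1))⁻¹ * q⁻¹ =
      (x * (x ^ n * q * (x ^ n)⁻¹ * q⁻¹) * x⁻¹) * (x * q * x⁻¹ * q⁻¹) by rw [pow_succ']; group]
    exact mul_mem (conj_mem hxA ih) h

theorem comm_mem_of_sq {x q : G} (hx : Odd (orderOf x)) {A : Subgroup G}
    (hxA : x ∈ normalizer (A : Set G)) (h : x ^ 2 * q * (x ^ 2)⁻¹ * q⁻¹ ∈ A) :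
    x * q * x⁻¹ * q⁻¹ ∈ A := by
  obtain ⟨m, hm⟩ := exists_pow_self hx 1
  rw [pow_one] at hm
  have := comm_pow_mem (pow_mem hxA 2) h m
  rwa [hm] at this

theorem mul_inv_mem_of_two {A B : Subgroup G} (hAB : A ≤ B) (hc : Nat.card B ≤ 2 * Nat.card A)
    {a b : G} (ha : a ∈ B) (ha' : a ∉ A) (hb : b ∈ B) (hb' : b ∉ A) : a * b⁻¹ ∈ A := by
  have h1 := relIndex_mul_relIndex ⊥ A B bot_le hAB
  rw [relIndex_bot_left, relIndex_bot_left] at h1
  have h2 : A.relIndex B ≤ 2 :=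
    Nat.le_of_mul_le_mul_left (show Nat.card A * A.relIndex B ≤ Nat.card A * 2 by omega) Nat.card_pos
  have h3 : A.relIndex B ≠ 1 := fun h => ha' (relIndex_eq_one.mp h ha)
  have h4 : A.relIndex B ≠ 0 := fun h => by
    rw [h, mul_zero] at h1
    exact (Nat.card_pos (α := ↥B)).ne h1
  have hidx : (A.subgroupOf B).index = 2 := by
    show A.relIndex B = 2
    omega
  have := (mul_mem_iff_of_index_two hidx (a := ⟨a, ha⟩) (b := ⟨b, hb⟩⁻¹)).mpr
    (iff_of_false (fun e => ha' (mem_subgroupOf.mp e)) (fun e => hb' (mem_subgroupOf.mp (inv_mem_iff.mp e))))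
  simpa [mem_subgroupOf] using this

namespace Push

theorem c_ne_one (h : Push M P Q c y) (hnc : ¬ ∀ x ∈ Q, Commute c x) : c ≠ 1 :=
  fun e => hnc fun x _ => e ▸ Commute.one_left x

theorem inf_conj (h : Push M P Q c y) (hnc : ¬ ∀ x ∈ Q, Commute c x) : P ⊓ cjS c⁻¹ P = Q := by
  refine le_antisymm ?_ (le_inf h.hQP fun q hq => mem_cjS.mpr ?_)
  · intro x hx0
    obtain ⟨hx, hxc⟩ := mem_inf.mp hx0
    by_contra hxQ
    rw [mem_cjS, inv_inv] at hxc
    have hxcQ : c * x * c⁻¹ ∉ Q := fun e => hxQ (by simpa [mul_assoc] using conj_mem' h.cQ e)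
    have h1 : c * x * c⁻¹ * x⁻¹ ∈ Q := h.mul_inv_mem hx hxQ hxc hxcQ
    have h2 := h.hinv x hx hxQ
    have h3 : c ^ (2 : ℤ) ∈ P := by
      have he : c ^ (2 : ℕ) = (c * x * c⁻¹ * x⁻¹) * (x * c * x⁻¹ * c) := by rw [sq]; group
      rw [zpow_ofNat, he]
      exact h.hQP (mul_mem h1 h2)
    have h4 := h.eq_one_of_zpow_mem h3
    exact h.c_ne_one hnc (eq_one_of_odd_of_pow_two h.hodd (j := 1) (by simpa [zpow_ofNat] using h4))
  · rw [inv_inv]
    exact h.hQP (conj_mem h.cQ hq)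

theorem le_of_conj_le (h : Push M P Q c y) {X : Subgroup G} (hP : P ≤ X)
    (hc : ∀ u ∈ P, c⁻¹ * u * c ∈ X) : M ≤ X := by
  obtain ⟨t, ht, htQ⟩ := h.exists_t
  have hq := conj_mem h.cQ (h.hinv t ht htQ)
  have h2 : c ^ 2 ∈ X := by
    have he : c ^ 2 = c * (t * c * t⁻¹ * c) * c⁻¹ * (c⁻¹ * t * c * t⁻¹)⁻¹ := by rw [sq]; group
    rw [he]
    exact mul_mem (hP (h.hQP hq)) (inv_mem (mul_mem (hc t ht) (inv_mem (hP ht))))
  obtain ⟨m, hm⟩ := exists_pow_self h.hodd 1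
  rw [pow_one] at hm
  have hcX : c ∈ X := hm ▸ pow_mem h2 m
  intro g hg
  obtain ⟨k, u, hu, rfl⟩ := h.hdec g hg
  exact mul_mem (zpow_mem hcX k) (hP hu)

theorem down_eq (h : Push M P Q c y) : CfsgLib.SimsChain.down (y * c) P = cjS c⁻¹ P := by
  ext x
  change x ∈ cjS (y * c)⁻¹ P ↔ _
  rw [mem_cjS, mem_cjS, inv_inv, inv_inv]
  refine ⟨fun e => ?_, fun e => ?_⟩
  · have := conj_mem' h.hy e
    rwa [show y⁻¹ * (y * c * x * (y * c)⁻¹) * y = c * x * c⁻¹ by group] at this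
  · have := conj_mem h.hy e
    rwa [show y * (c * x * c⁻¹) * y⁻¹ = y * c * x * (y * c)⁻¹ by group] at this

theorem setup (h : Push M P Q c y) (hnc : ¬ ∀ x ∈ Q, Commute c x) :
    CfsgLib.SimsChain.Setup P (y * c) 2 := by
  refine ⟨h.hP, ?_, ?_, fun N hNP hPN hN => ?_⟩
  · rw [h.down_eq, h.inf_conj hnc]
    have hle : Q ≤ cjS c⁻¹ P := (h.inf_conj hnc).ge.trans inf_le_right
    have h1 := relIndex_mul_relIndex ⊥ Q (cjS c⁻¹ P) bot_le hle
    rw [relIndex_bot_left, relIndex_bot_left,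
      show Nat.card (cjS c⁻¹ P) = Nat.card P from card_map_of_injective (MulAut.conj c⁻¹).injective,
      h.card_P, mul_comm 2] at h1
    exact Nat.eq_of_mul_eq_mul_left Nat.card_pos h1
  · rw [h.down_eq, h.inf_conj hnc]; exact h.hidx
  · have hyN : ∀ s, s ∈ cjS y⁻¹ N → c⁻¹ * s * c ∈ N := fun s hs => by
      rw [mem_cjS, inv_inv] at hs
      refine hN.le (?_ : c⁻¹ * s * c ∈ cjS (y * c)⁻¹ N)
      rw [mem_cjS, inv_inv]
      rwa [show y * c * (c⁻¹ * s * c) * (y * c)⁻¹ = y * s * y⁻¹ by group]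
    have hyP : ∀ u ∈ P, u ∈ normalizer (cjS y⁻¹ N : Set G) := fun u hu =>
      conj_normalizer (hPN (by rw [inv_inv]; exact conj_mem h.hy hu))
    have heq : cjS c⁻¹ (cjS y⁻¹ N) = N := by
      conv_rhs => rw [← hN]
      show _ = cjS (y * c)⁻¹ N
      rw [cjS, cjS, cjS, map_map]
      congr 1
      ext x
      simp [mul_assoc]
    have hM : M ≤ normalizer (N : Set G) := h.le_of_conj_le hPN fun u hu => by
      rw [← heq]
      exact conj_normalizer (by rw [show c⁻¹⁻¹ * (c⁻¹ * u * c) * c⁻¹ = u by group]; exact hyP u hu)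
    refine h.hcore N hNP hM ?_
    refine inv_mem_iff.mp (mem_normalizer_of fun s hs => ?_)
    have h1 : y⁻¹ * s * y⁻¹⁻¹ ∈ cjS y⁻¹ N := mem_cjS.mpr (by simpa [mul_assoc] using hs)
    have h2 := conj_mem (hM h.hcM) (hyN _ h1)
    rwa [show c * (c⁻¹ * (y⁻¹ * s * y⁻¹⁻¹) * c) * c⁻¹ = y⁻¹ * s * y⁻¹⁻¹ by group] at h2

theorem mem_centralizer_of_first (h : Push M P Q c y) {v : G} (h0 : ∀ u ∈ P, Commute u v)
    (h1 : ∀ u ∈ P, Commute ((y * c)⁻¹ * u * (y * c)) v) : v ∈ centralizer (M : Set G) := by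
  have hle : M ≤ centralizer {v} :=
    h.le_of_conj_le (fun u hu => mem_centralizer_singleton_iff.mpr (h0 u hu).eq) fun u hu => by
      refine mem_centralizer_singleton_iff.mpr ?_
      have := h1 _ (conj_mem h.hy hu)
      rwa [show (y * c)⁻¹ * (y * u * y⁻¹) * (y * c) = c⁻¹ * u * c by group] at this
  exact mem_centralizer_iff.mpr fun m hm => mem_centralizer_singleton_iff.mp (hle hm)

theorem bound_two (h : Push M P Q c y) (hnc : ¬ ∀ x ∈ Q, Commute c x) :
    ∃ t : ℕ, Nat.card P = 2 ^ t ∧ t ≤ 6 ∧ t ≠ 5 := by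
  haveI : Fact (Nat.Prime 2) := ⟨Nat.prime_two⟩
  suffices hbot : P ⊓ centralizer ((⨆ i ∈ Finset.range (2 + 1),
      P.map (MulAut.conj ((y * c) ^ i)⁻¹).toMonoidHom : Subgroup G) : Set G) = ⊥ by
    obtain ⟨t, ht, -, ht3, ht2⟩ := (h.setup hnc).bound (n := 2) (by norm_num)
      (⨆ i ∈ Finset.range (2 + 1), P.map (MulAut.conj ((y * c) ^ i)⁻¹).toMonoidHom)
      (fun i hi => le_iSup₂_of_le i (Finset.mem_range.2 (by omega)) le_rfl) le_rfl hbot
    exact ⟨t, ht, by omega, by omega⟩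
  rw [eq_bot_iff]
  rintro v ⟨hvP, hvK⟩
  have hcomm : ∀ i ≤ 2, ∀ u ∈ P, Commute (((y * c) ^ i)⁻¹ * u * (y * c) ^ i) v := by
    intro i hi u hu
    refine (mem_centralizer_iff.mp hvK _ (Subgroup.mem_iSup_of_mem i (Subgroup.mem_iSup_of_mem (Finset.mem_range.2 (by omega)) ?_)) :)
    exact mem_cjS.mpr (by rw [inv_inv]; simpa [mul_assoc] using hu)
  have h0 : ∀ u ∈ P, Commute u v := fun u hu => by simpa using hcomm 0 (by norm_num) u hu
  have h1 : ∀ u ∈ P, Commute ((y * c)⁻¹ * u * (y * c)) v := fun u hu => by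
    simpa using hcomm 1 (by norm_num) u hu
  have hvM := h.mem_centralizer_of_first h0 h1
  refine h.hdisj v hvP hvM (h.mem_centralizer_of_first (fun u hu => ?_) fun u hu => ?_)
  · have := (h0 _ (conj_mem' h.hy hu))
    have h' := (Commute.conj_iff y).mpr this
    rwa [show y * (y⁻¹ * u * y) * y⁻¹ = u by group] at h'
  · have hcv : c * v * c⁻¹ = v := by
      rw [(mem_centralizer_iff.mp hvM) c h.hcM, mul_inv_cancel_right]
    have h' := (Commute.conj_iff (y * c)).mpr (hcomm 2 le_rfl u hu)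
    rwa [show (y * c) * v * (y * c)⁻¹ = y * v * y⁻¹ by
        rw [show (y * c) * v * (y * c)⁻¹ = y * (c * v * c⁻¹) * y⁻¹ by group, hcv],
      show (y * c) * (((y * c) ^ 2)⁻¹ * u * (y * c) ^ 2) * (y * c)⁻¹ = (y * c)⁻¹ * u * (y * c) by
        rw [sq]; group] at h'

theorem bound_one (h : Push M P Q c y) (hnc : ¬ ∀ x ∈ Q, Commute c x) (hV0 : h.V0 = ⊥) :
    ∃ t : ℕ, Nat.card P = 2 ^ t ∧ t ≤ 3 ∧ t ≠ 2 := by
  haveI : Fact (Nat.Prime 2) := ⟨Nat.prime_two⟩
  suffices hbot : P ⊓ centralizer ((⨆ i ∈ Finset.range (1 + 1),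
      P.map (MulAut.conj ((y * c) ^ i)⁻¹).toMonoidHom : Subgroup G) : Set G) = ⊥ by
    obtain ⟨t, ht, -, ht3, ht2⟩ := (h.setup hnc).bound (n := 1) le_rfl
      (⨆ i ∈ Finset.range (1 + 1), P.map (MulAut.conj ((y * c) ^ i)⁻¹).toMonoidHom)
      (fun i hi => le_iSup₂_of_le i (Finset.mem_range.2 (by omega)) le_rfl) le_rfl hbot
    exact ⟨t, ht, by omega, by omega⟩
  by_contra hne
  set N := P ⊓ centralizer ((⨆ i ∈ Finset.range (1 + 1), P.map (MulAut.conj ((y * c) ^ i)⁻¹).toMonoidHom :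
      Subgroup G) : Set G) with hN
  haveI : Nontrivial ↥N := (nontrivial_iff_ne_bot _).mpr hne
  obtain ⟨x, hx⟩ := exists_prime_orderOf_dvd_card' (G := ↥N) 2
    ((h.hP.to_le inf_le_left).card_eq_or_dvd.resolve_left (Finite.one_lt_card (α := ↥N)).ne')
  have hcomm : ∀ i ≤ 1, ∀ u ∈ P, Commute (((y * c) ^ i)⁻¹ * u * (y * c) ^ i) (x : G) := by
    intro i hi u hu
    refine (mem_centralizer_iff.mp x.2.2 _ (Subgroup.mem_iSup_of_mem i (Subgroup.mem_iSup_of_mem (Finset.mem_range.2 (by omega)) ?_)) :)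
    exact mem_cjS.mpr (by rw [inv_inv]; simpa [mul_assoc] using hu)
  have h0 : ∀ u ∈ P, Commute u (x : G) := fun u hu => by simpa using hcomm 0 (by norm_num) u hu
  have hxM := h.mem_centralizer_of_first h0 fun u hu => by simpa using hcomm 1 le_rfl u hu
  have hmem : (x : G) ∈ h.V0 := ⟨h.Z_le_V hnc (mem_omC.mpr ⟨x.2.1, fun u hu => (h0 u hu).symm, by
    rw [← SubgroupClass.coe_pow, ← hx, pow_orderOf_eq_one]; rfl⟩), hxM⟩
  rw [hV0, mem_bot, OneMemClass.coe_eq_one] at hmem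
  rw [hmem, orderOf_one] at hx
  norm_num at hx

theorem exists_fixed_of_comm_mem (h : Push M P Q c y) (hnc : ¬ ∀ x ∈ Q, Commute c x) {q : G}
    (hq : q ∈ Q) (hf : c * q * c⁻¹ * q⁻¹ ∈ h.V) : ∃ v ∈ h.V, Commute c (v * q) := by
  have hsup : h.V ≤ h.W ⊔ h.V0 := by
    have hle : h.W ⊔ h.V0 ≤ h.V := sup_le h.W_le_V inf_le_left
    have hinf : h.W ⊓ h.V0 = ⊥ := by
      rw [eq_bot_iff]
      rintro w ⟨hw, hw0⟩
      exact h.W_inf_V0 hw ((mem_centralizer_iff.mp hw0.2) c h.hcM)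
    have h1 := card_mul_card_le (le_sup_left : h.W ≤ h.W ⊔ h.V0) (le_sup_right : h.V0 ≤ h.W ⊔ h.V0)
    rw [hinf, card_bot, mul_one, h.card_W hnc, ← (h.card_facts hnc).2.1] at h1
    exact (eq_of_le_of_card_ge hle h1).ge
  have hmem : ∃ w ∈ h.W, ∃ v₀ ∈ h.V0, c * q * c⁻¹ * q⁻¹ = w * v₀ := by
    have := hsup hf
    rw [← SetLike.mem_coe, coe_mul_of_left_le_normalizer_right h.W h.V0 (fun w hw => mem_normalizer_of
      fun s hs => by rw [(h.V_comm (h.W_le_V hw) hs.1).eq, mul_inv_cancel_right]; exact hs)] at this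
    obtain ⟨w, hw, v₀, hv₀, e⟩ := this
    exact ⟨w, hw, v₀, hv₀, e.symm⟩
  obtain ⟨w, hw, v₀, hv₀, e⟩ := hmem
  obtain ⟨v, hv, rfl⟩ := h.mem_W.mp hw
  have hcv : c * v⁻¹ * c⁻¹ ∈ h.V := conj_mem h.cV (inv_mem hv)
  have e1 : c * (v⁻¹ * q) * c⁻¹ = v₀ * (v⁻¹ * q) := by
    calc c * (v⁻¹ * q) * c⁻¹ = (c * v⁻¹ * c⁻¹) * (c * q * c⁻¹ * q⁻¹) * q := by group
      _ = (c * v⁻¹ * c⁻¹) * ((c * v * c⁻¹ * v⁻¹) * v₀) * q := by rw [e]
      _ = (v⁻¹ * v₀) * q := by group
      _ = v₀ * (v⁻¹ * q) := by rw [(h.V_comm (inv_mem hv) hv₀.1).eq, mul_assoc]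
  have h1 := stable h.hodd e1 ((mem_centralizer_iff.mp hv₀.2) c h.hcM) (h.pow_two_V hv₀.1)
  rw [h1, one_mul, mul_inv_eq_iff_eq_mul] at e1
  exact ⟨v⁻¹, inv_mem hv, e1⟩

theorem not_caseA (h : Push M P Q c y) (hnc : ¬ ∀ x ∈ Q, Commute c x)
    (hy2 : y ^ 2 ∈ normalizer (Q : Set G) ∨ Odd (orderOf y))
    (hQ : Nat.card Q = 32) (hV0 : Nat.card h.V0 = 2) (hR : ¬ Q ⊓ centralizer {c} ≤ h.V) : False := by
  obtain ⟨t, ht, htQ⟩ := h.exists_t
  obtain ⟨hcZ, hcV, -⟩ := h.card_facts hnc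
  rw [hV0] at hcZ hcV
  set R : Subgroup G := Q ⊓ centralizer {c} with hRdef
  have hfix : ∀ {r}, r ∈ R → Commute c r := fun hr => (mem_centralizer_singleton_iff.mp hr.2).symm
  have hRmem : ∀ {r}, r ∈ Q → Commute c r → r ∈ R := fun hr hc =>
    ⟨hr, mem_centralizer_singleton_iff.mpr hc.symm.eq⟩
  have hVQ : h.V ≤ Q := omC_le _
  have hWQ : h.W ≤ Q := h.W_le_V.trans hVQ
  have hVR : h.V ⊓ R ≤ h.V0 := fun r hr => h.mem_V0_of_commute hnc hr.1 (hfix hr.2)
  have hV0R : h.V0 ≤ R := fun r hr => hRmem (hVQ hr.1) ((mem_centralizer_iff.mp hr.2) c h.hcM)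
  set F := h.V ⊔ R with hFdef
  have hFQ : F ≤ Q := sup_le hVQ inf_le_left
  have hFmem : ∀ {f}, f ∈ F → ∃ v ∈ h.V, ∃ r ∈ R, f = v * r := by
    intro f hf
    rw [← SetLike.mem_coe, coe_mul_of_right_le_normalizer_left h.V R (fun r hr => mem_normalizer_of
      fun s hs => by rw [(h.commute_V hs hr.1).eq, mul_inv_cancel_right]; exact hs)] at hf
    obtain ⟨v, hv, r, hr, e⟩ := hf
    exact ⟨v, hv, r, hr, e.symm⟩
  have hcF : c ∈ normalizer (F : Set G) := mem_normalizer_of fun f hf => by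
    obtain ⟨v, hv, r, hr, rfl⟩ := hFmem hf
    rw [show c * (v * r) * c⁻¹ = (c * v * c⁻¹) * (c * r * c⁻¹) by group,
      (hfix hr).eq, mul_inv_cancel_right]
    exact mul_mem_sup (conj_mem h.cV hv) hr
  have hVne : h.V ≠ F := fun e => hR (e ▸ le_sup_right)
  have hF16 : 2 * Nat.card h.V ≤ Nat.card F := two_mul_card_le (le_sup_left : h.V ≤ F) hVne
  have hR4 : 4 ≤ Nat.card R := by
    have hne : h.V0 ≠ R := fun e => hR (e ▸ inf_le_left)
    have : 2 * Nat.card h.V0 ≤ Nat.card R := two_mul_card_le hV0R hne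
    omega
  have hQF : Q ≤ F := by
    intro q hq
    by_contra hqF
    have hFlt : F ≠ Q := fun e => hqF (e ▸ hq)
    have hF2 : 2 * Nat.card F ≤ Nat.card Q := two_mul_card_le hFQ hFlt
    have hcq : c * q * c⁻¹ ∉ F := fun e => hqF (by simpa [mul_assoc] using conj_mem' hcF e)
    have hf : c * q * c⁻¹ * q⁻¹ ∈ F :=
      mul_inv_mem_of_two hFQ (by omega) (conj_mem h.cQ hq) hcq hq hqF
    obtain ⟨v, hv, r, hr, e⟩ := hFmem hf
    have hr2 : r * r ∈ h.V0 := by
      by_cases hr0 : r ∈ h.V0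
      · exact mul_mem hr0 hr0
      have h1 := card_mul_card_le (le_sup_left : h.V ≤ F) (le_sup_right : R ≤ F)
      have h2 := card_le_of_le hVR
      have hF16' : Nat.card F = 16 := by omega
      rw [hcV, hF16'] at h1
      have h3 : Nat.card R ≤ 2 * Nat.card h.V0 := by
        have : Nat.card ↥(h.V ⊓ R) ≤ 2 := by omega
        nlinarith
      have := mul_inv_mem_of_two hV0R h3 hr hr0 (inv_mem hr) (fun e => hr0 (inv_mem_iff.mp e))
      rwa [inv_inv] at this
    have hmem : c ^ 2 * q * (c ^ 2)⁻¹ * q⁻¹ ∈ h.V := by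
      have e2 : c ^ 2 * q * (c ^ 2)⁻¹ * q⁻¹ =
          (c * (c * q * c⁻¹ * q⁻¹) * c⁻¹) * (c * q * c⁻¹ * q⁻¹) := by rw [sq]; group
      rw [e2, e]
      have e3 : c * (v * r) * c⁻¹ * (v * r) = (c * v * c⁻¹ * v) * (r * r) := by
        rw [show c * (v * r) * c⁻¹ = c * v * c⁻¹ * (c * r * c⁻¹) by group, (hfix hr).eq,
          mul_inv_cancel_right]
        calc c * v * c⁻¹ * r * (v * r) = c * v * c⁻¹ * (r * v) * r := by group
          _ = c * v * c⁻¹ * (v * r) * r := by rw [(h.commute_V hv hr.1).eq]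
          _ = c * v * c⁻¹ * v * (r * r) := by group
      rw [e3]
      exact mul_mem (mul_mem (conj_mem h.cV hv) hv) hr2.1
    obtain ⟨w, hw, hc⟩ := h.exists_fixed_of_comm_mem hnc hq (comm_mem_of_sq h.hodd h.cV hmem)
    apply hqF
    rw [show q = w⁻¹ * (w * q) by group]
    exact mul_mem_sup (inv_mem hw) (hRmem (mul_mem (hVQ hw) hq) hc)
  have hWR : ∀ q ∈ Q, ∃ w ∈ h.W, ∃ r ∈ R, q = w * r := by
    intro q hq
    obtain ⟨v, hv, r, hr, rfl⟩ := hFmem (hQF hq)
    have hinf : h.W ⊓ h.V0 = ⊥ := by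
      rw [eq_bot_iff]
      rintro w ⟨hw, hw0⟩
      exact h.W_inf_V0 hw ((mem_centralizer_iff.mp hw0.2) c h.hcM)
    have hle : h.W ⊔ h.V0 ≤ h.V := sup_le h.W_le_V inf_le_left
    have h1 := card_mul_card_le (le_sup_left : h.W ≤ h.W ⊔ h.V0) (le_sup_right : h.V0 ≤ h.W ⊔ h.V0)
    rw [hinf, card_bot, mul_one, h.card_W hnc, hV0] at h1
    have hv' := (eq_of_le_of_card_ge hle (by omega)).ge hv
    rw [← SetLike.mem_coe, coe_mul_of_left_le_normalizer_right h.W h.V0 (fun w hw => mem_normalizer_of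
      fun s hs => by rw [(h.V_comm (h.W_le_V hw) hs.1).eq, mul_inv_cancel_right]; exact hs)] at hv'
    obtain ⟨w, hw, v₀, hv₀, rfl⟩ := hv'
    exact ⟨w, hw, v₀ * r, mul_mem (hV0R hv₀) hr, mul_assoc _ _ _⟩
  have hinfW : h.W ⊓ R = ⊥ := by
    rw [eq_bot_iff]
    exact fun w hw => h.W_inf_V0 hw.1 (hfix hw.2)
  have hR8 : Nat.card R = 8 := by
    have h1 := card_mul_card_le hWQ (inf_le_left : R ≤ Q)
    rw [hinfW, card_bot, mul_one, h.card_W hnc, hQ] at h1
    have h1' : 4 * Nat.card R ≤ 32 := h1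
    have h2 : Nat.card Q ≤ Nat.card h.W * Nat.card R := by
      rw [← Nat.card_prod]
      refine Nat.card_le_card_of_surjective (fun z : ↥h.W × ↥R => (⟨z.1 * z.2,
        mul_mem (hWQ z.1.2) (z.2.2.1)⟩ : ↥Q)) ?_
      rintro ⟨q, hq⟩
      obtain ⟨w, hw, r, hr, rfl⟩ := hWR q hq
      exact ⟨(⟨w, hw⟩, ⟨r, hr⟩), rfl⟩
    rw [h.card_W hnc, hQ] at h2
    have h2' : 32 ≤ 4 * Nat.card R := h2
    omega
  -- `t` inverts `c` up to `W`
  have hcR : c ∈ normalizer (R : Set G) := mem_normalizer_of fun r hr => by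
    rw [(hfix hr).eq, mul_inv_cancel_right]; exact hr
  have hPR : P ≤ normalizer (R : Set G) := by
    have hQR : ∀ q ∈ Q, q ∈ normalizer (R : Set G) := fun q hq => by
      obtain ⟨w, hw, r, hr, rfl⟩ := hWR q hq
      refine mul_mem (mem_normalizer_of fun s hs => ?_) (le_normalizer hr)
      rw [(h.commute_V (h.W_le_V hw) hs.1).symm.eq, mul_inv_cancel_right]
      exact hs
    have hq := h.hinv t ht htQ
    obtain ⟨w, hw, r, hr, hwr⟩ := hWR _ hq
    have hr1 : r = 1 := by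
      have hcomm : Commute r (w * c⁻¹) :=
        (h.commute_V (h.W_le_V hw) hr.1).mul_right (hfix hr).symm.inv_right
      have e : t * c * t⁻¹ = r * (w * c⁻¹) := by
        calc t * c * t⁻¹ = (w * r) * c⁻¹ := by rw [← hwr]; group
          _ = (r * w) * c⁻¹ := by rw [(h.commute_V (h.W_le_V hw) hr.1).eq]
          _ = r * (w * c⁻¹) := mul_assoc _ _ _
      have hn : (r * (w * c⁻¹)) ^ orderOf c = 1 := by
        rw [← e, conj_pow, pow_orderOf_eq_one, mul_one, mul_inv_cancel]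
      rw [hcomm.mul_pow] at hn
      have hpw : ∀ n : ℕ, ∃ z ∈ h.W, (w * c⁻¹) ^ n = z * (c⁻¹) ^ n := by
        intro n
        induction n with
        | zero => exact ⟨1, one_mem _, by simp⟩
        | succ n ih =>
          obtain ⟨z, hz, hz'⟩ := ih
          refine ⟨w * (c⁻¹ * z * c⁻¹⁻¹), mul_mem hw (conj_mem (inv_mem h.cW) hz), ?_⟩
          rw [pow_succ', hz', pow_succ']
          group
      obtain ⟨z, hz, hz'⟩ := hpw (orderOf c)
      rw [inv_pow, pow_orderOf_eq_one, inv_one, mul_one] at hz'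
      have hzc : Commute c z := by
        have h1 : Commute (w * c⁻¹) z := hz' ▸ (Commute.refl _).pow_right _
        have h2 : Commute w⁻¹ z := (h.V_comm (h.W_le_V hw) (h.W_le_V hz)).inv_left
        have h3 := h2.mul_left h1
        rw [inv_mul_cancel_left] at h3
        simpa using h3.inv_left
      rw [hz', h.W_inf_V0 hz hzc, mul_one] at hn
      obtain ⟨j, hj⟩ := exists_pow_two h.isPGroupQ hr.1
      have hodd : Odd (orderOf r) := Odd.of_dvd_nat h.hodd (orderOf_dvd_of_pow_eq_one hn)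
      exact eq_one_of_odd_of_pow_two hodd hj
    rw [hr1, mul_one] at hwr
    have htR : t ∈ normalizer (R : Set G) := mem_normalizer_of fun s hs => by
      have hx : t * s * t⁻¹ ∈ Q := conj_mem (h.pQ ht) hs.1
      refine hRmem hx (Commute.inv_left_iff.mp ?_)
      have hc : Commute (t * c * t⁻¹) (t * s * t⁻¹) := (Commute.conj_iff t).mpr (hfix hs)
      have e : c⁻¹ = w⁻¹ * (t * c * t⁻¹) := by rw [← hwr]; group
      rw [e]
      exact ((h.commute_V (h.W_le_V hw) hx).symm.inv_left).mul_left hc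
    intro u hu
    by_cases huQ : u ∈ Q
    · exact hQR u huQ
    · rw [show u = u * t⁻¹ * t by group]
      exact mul_mem (hQR _ (h.mul_inv_mem ht htQ hu huQ)) htR
  have hdis : ∀ g ∈ normalizer (P : Set G),
      (∀ v ∈ h.V0, g * v * g⁻¹ ∈ h.V0 → v = 1) → R ⊓ cjS g R = ⊥ := by
    intro g hg hgd
    by_contra hne
    haveI : Fact (Nat.Prime 2) := ⟨Nat.prime_two⟩
    set N := R ⊓ cjS g R
    have hNP : N ≤ P := inf_le_left.trans (inf_le_left.trans h.hQP)
    have hPN : P ≤ normalizer (N : Set G) := fun u hu => mem_normalizer_of fun s hs =>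
      ⟨conj_mem (hPR hu) hs.1,
        conj_mem (conj_normalizer (hPR (conj_mem' hg hu))) hs.2⟩
    haveI := h.hP.isNilpotent
    haveI : (N.subgroupOf P).Normal := normal_subgroupOf_of_le_normalizer hPN
    haveI : Nontrivial ↥((N.subgroupOf P) ⊓ center ↥P : Subgroup ↥P) :=
      (nontrivial_iff_ne_bot _).mpr (CfsgLib.Transfer.inf_center_ne_bot fun e => hne (by
        have := congrArg (Subgroup.map P.subtype) e
        rwa [subgroupOf_map_subtype, inf_eq_left.mpr hNP, Subgroup.map_bot] at this))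
    obtain ⟨x, hx⟩ := exists_prime_orderOf_dvd_card'
      (G := ↥((N.subgroupOf P) ⊓ center ↥P : Subgroup ↥P)) 2
      ((h.hP.to_subgroup _).card_eq_or_dvd.resolve_left Finite.one_lt_card.ne')
    obtain ⟨hxN, hxc⟩ := x.2
    have hxcen : ∀ u ∈ P, Commute ((x : ↥P) : G) u := fun u hu =>
      (congrArg Subtype.val (mem_center_iff.mp hxc ⟨u, hu⟩)).symm
    have hx2 : ((x : ↥P) : G) ^ 2 = 1 := by
      have := pow_orderOf_eq_one x
      rw [hx] at this
      simpa using congrArg (fun z : ↥((N.subgroupOf P) ⊓ center ↥P : Subgroup ↥P) => ((z : ↥P) : G)) this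
    obtain ⟨hxR, hxg⟩ := mem_subgroupOf.mp hxN
    have hmem : ∀ {e : G}, e ∈ R → (∀ u ∈ P, Commute e u) → e ^ 2 = 1 → e ∈ h.V0 := fun he hcen he2 =>
      h.mem_V0 hnc (mem_omC.mpr ⟨h.hQP he.1, hcen, he2⟩) (hfix he)
    have hu : g⁻¹ * (x : ↥P) * g ∈ h.V0 := by
      refine hmem (mem_cjS.mp hxg) (fun u hu => ?_) ?_
      · have h' := hxcen _ (conj_mem hg hu)
        have h'' := (Commute.conj_iff g⁻¹).mpr h'
        simpa [mul_assoc] using h''
      · have := conj_pow (i := 2) (a := g⁻¹) (b := ((x : ↥P) : G))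
        rw [inv_inv, hx2, mul_one, inv_mul_cancel] at this
        exact this
    have h1 := hgd _ hu (by simpa [mul_assoc] using hmem hxR hxcen hx2)
    have hx1 : ((x : ↥P) : G) = 1 := by
      calc ((x : ↥P) : G) = g * (g⁻¹ * (x : ↥P) * g) * g⁻¹ := by group
        _ = 1 := by rw [h1]; group
    rw [OneMemClass.coe_eq_one, OneMemClass.coe_eq_one] at hx1
    rw [hx1, orderOf_one] at hx
    norm_num at hx
  set R2 := cjS y R with hR2def
  have hR2P : R2 ≤ P := by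
    rintro _ ⟨r, hr, rfl⟩
    exact conj_mem h.hy (h.hQP hr.1)
  have hPR2 : P ≤ normalizer (R2 : Set G) := fun u hu => conj_normalizer (hPR (conj_mem' h.hy hu))
  have hR2 : Nat.card R2 = 8 := by rw [hR2def, card_map_of_injective (MulAut.conj y).injective, hR8]
  have hbot : R ⊓ R2 = ⊥ := hdis y h.hy fun v hv hv' =>
    h.hdisj v (h.hQP (hVQ hv.1)) hv.2 hv'.2
  have hRP : R ≤ P := inf_le_left.trans h.hQP
  have hcomm : ∀ {a b}, a ∈ R → b ∈ R2 → Commute a b := fun ha hb =>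
    commute_of_normalize (hR2P.trans hPR) (hRP.trans hPR2) hbot ha hb
  have hP64 : Nat.card P = 64 := by rw [h.card_P, hQ]
  have hsupP : R ⊔ R2 = P := by
    refine eq_of_le_of_card_ge (sup_le hRP hR2P) ?_
    have := card_mul_card_le (le_sup_left : R ≤ R ⊔ R2) (le_sup_right : R2 ≤ R ⊔ R2)
    rw [hbot, card_bot, mul_one, hR8, hR2] at this
    omega
  have hnab : ¬ ∀ a ∈ R, ∀ b ∈ R, Commute a b := by
    intro hab
    have hPab : ∀ u ∈ P, ∀ u' ∈ P, Commute u u' := by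
      have hdec : ∀ {u}, u ∈ P → ∃ a ∈ R, ∃ b ∈ R2, u = a * b := fun {u} hu => by
        rw [← hsupP, ← SetLike.mem_coe, coe_mul_of_left_le_normalizer_right R R2 (hRP.trans hPR2)] at hu
        obtain ⟨a, ha, b, hb, e⟩ := hu
        exact ⟨a, ha, b, hb, e.symm⟩
      have h2 : ∀ a ∈ R2, ∀ b ∈ R2, Commute a b := by
        rintro _ ⟨a, ha, rfl⟩ _ ⟨b, hb, rfl⟩
        exact (hab a ha b hb).map _
      intro u hu u' hu'
      obtain ⟨a, ha, b, hb, rfl⟩ := hdec hu
      obtain ⟨a', ha', b', hb', rfl⟩ := hdec hu'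
      exact ((hab a ha a' ha').mul_right (hcomm ha hb')).mul_left
        ((hcomm ha' hb).symm.mul_right (h2 b hb b' hb'))
    have hVZ : h.V ≤ h.Z := fun v hv =>
      h.mem_Z ht htQ hv (hPab t ht v (h.hQP (hVQ hv)))
    have := card_le_of_le hVZ
    omega
  rcases hy2 with hy2 | hy2
  · -- `y²` normalizes `Q`
    set S1 := R2 ⊓ Q with hS1
    have hS1card : 4 ≤ Nat.card S1 := by
      have := card_mul_card_le hR2P h.hQP
      rw [hR2, hQ, hP64] at this
      have : 8 * 32 ≤ 64 * Nat.card S1 := this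
      omega
    have hZR : ∀ r ∈ R, (∀ a ∈ R, Commute r a) → r ∈ h.V0 := by
      intro r hr hrc
      by_contra hr0
      let C : Subgroup G := R ⊓ centralizer (R : Set G)
      have hC0 : h.V0 ≤ C := fun v hv => ⟨hV0R hv, mem_centralizer_iff.mpr fun a ha =>
        (h.commute_V hv.1 ha.1).eq⟩
      have hne : h.V0 ≠ C := fun e => hr0 (e ▸ (⟨hr, mem_centralizer_iff.mpr fun a ha => (hrc a ha).symm.eq⟩ : r ∈ C))
      have h4 : 2 * Nat.card h.V0 ≤ Nat.card C := two_mul_card_le hC0 hne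
      apply hnab
      intro a ha b hb
      by_cases haC : a ∈ C
      · exact ((mem_centralizer_iff.mp haC.2) b hb).symm
      by_cases hbC : b ∈ C
      · exact (mem_centralizer_iff.mp hbC.2) a ha
      have hab := mul_inv_mem_of_two (inf_le_left : C ≤ R) (by linarith) hb hbC ha haC
      have h1 : Commute a (b * a⁻¹) := (mem_centralizer_iff.mp hab.2) a ha
      have h2 := h1.mul_right (Commute.refl a)
      rwa [inv_mul_cancel_right] at h2
    have hS1V : S1 ≤ h.V := by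
      intro s hs
      obtain ⟨w, hw, r, hr, rfl⟩ := hWR s hs.2
      refine mul_mem (h.W_le_V hw) (hZR r hr fun a ha => ?_).1
      have h1 : Commute a (w * r) := hcomm ha hs.1
      have h2 : Commute a w := h.commute_V (h.W_le_V hw) ha.1
      have h3 := h2.inv_right.mul_right h1
      rw [inv_mul_cancel_left] at h3
      exact h3.symm
    have hVD : h.V ≤ cjS y Q := by
      have hle : S1 ⊔ h.V0 ≤ h.V := sup_le hS1V inf_le_left
      have hb : S1 ⊓ h.V0 = ⊥ := by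
        rw [eq_bot_iff, ← hbot]
        exact fun v hv => ⟨hV0R hv.2, hv.1.1⟩
      have h1 := card_mul_card_le (le_sup_left : S1 ≤ S1 ⊔ h.V0) (le_sup_right : h.V0 ≤ S1 ⊔ h.V0)
      rw [hb, card_bot, mul_one, hV0] at h1
      rw [← eq_of_le_of_card_ge hle (by omega)]
      refine sup_le (inf_le_left.trans (map_mono inf_le_left)) fun v hv => mem_cjS.mpr ?_
      have hvZ : y⁻¹ * v * y ∈ h.Z := conj_mem' (normalizer_le_normalizer_omC h.hy) (h.V0_le_Z hv)
      exact hVQ (h.Z_le_V hnc hvZ)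
    set D := Q ⊓ cjS y Q
    have hcD : c ∈ normalizer (D : Set G) := mem_normalizer_of fun d hd => by
      obtain ⟨w, hw, r, hr, rfl⟩ := hWR d hd.1
      have e : c * (w * r) * c⁻¹ = (c * w * c⁻¹ * w⁻¹) * (w * r) := by
        rw [show c * (w * r) * c⁻¹ = c * w * c⁻¹ * (c * r * c⁻¹) by group, (hfix hr).eq]
        group
      rw [e]
      have hV' : c * w * c⁻¹ * w⁻¹ ∈ h.V :=
        mul_mem (conj_mem h.cV (h.W_le_V hw)) (inv_mem (h.W_le_V hw))
      exact mul_mem (⟨hVQ hV', hVD hV'⟩ : _ ∈ D) hd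
    have hPD : P ≤ normalizer (D : Set G) := fun u hu => mem_normalizer_of fun s hs =>
      ⟨conj_mem (h.pQ hu) hs.1, conj_mem (conj_normalizer (h.pQ (conj_mem' h.hy hu))) hs.2⟩
    have hM : M ≤ normalizer (D : Set G) := fun g hg => by
      obtain ⟨k, u, hu, rfl⟩ := h.hdec g hg
      exact mul_mem (zpow_mem hcD k) (hPD hu)
    have hD : D = ⊥ := h.hcore D (inf_le_left.trans h.hQP) hM (mem_normalizer_of fun s hs => by
      refine ⟨?_, mem_cjS.mpr (by simpa [mul_assoc] using hs.1)⟩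
      have h1 := conj_mem hy2 (mem_cjS.mp hs.2)
      rwa [show y ^ 2 * (y⁻¹ * s * y) * (y ^ 2)⁻¹ = y * s * y⁻¹ by rw [sq]; group] at h1)
    have hVbot : h.V ≤ ⊥ := (le_inf hVQ hVD : h.V ≤ D).trans hD.le
    have := card_le_of_le hVbot
    rw [card_bot] at this
    omega
  · -- `y` has odd order
    obtain ⟨m, hm⟩ := exists_pow_self hy2 1
    rw [pow_one] at hm
    set R3 := cjS (y ^ 2) R with hR3def
    have hy2P : y ^ 2 ∈ normalizer (P : Set G) := pow_mem h.hy 2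
    have hR3P : R3 ≤ P := by
      rintro _ ⟨r, hr, rfl⟩
      exact conj_mem hy2P (h.hQP hr.1)
    have hPR3 : P ≤ normalizer (R3 : Set G) := fun u hu => conj_normalizer (hPR (conj_mem' hy2P hu))
    have hbot3 : R ⊓ R3 = ⊥ := hdis _ hy2P fun v hv hv' => by
      by_contra hv1
      have hv2 : y ^ 2 * v * (y ^ 2)⁻¹ ≠ 1 := fun e => hv1 (by
        rw [mul_inv_eq_one] at e
        exact mul_eq_left.mp e)
      have heq : y ^ 2 * v * (y ^ 2)⁻¹ = v := by
        obtain ⟨a, b, hab, huniv⟩ := Nat.card_eq_two_iff.mp hV0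
        have hall : ∀ z : ↥h.V0, z = a ∨ z = b := fun z => by
          have : z ∈ ({a, b} : Set ↥h.V0) := huniv ▸ Set.mem_univ z
          simpa using this
        rcases hall ⟨v, hv⟩ with e1 | e1 <;> rcases hall ⟨_, hv'⟩ with e2 | e2 <;>
          rcases hall 1 with e3 | e3 <;>
          first
          | exact congrArg Subtype.val (e2.trans e1.symm)
          | exact absurd (congrArg Subtype.val (e1.trans e3.symm)) hv1
          | exact absurd (congrArg Subtype.val (e2.trans e3.symm)) hv2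
      have hcomm' : Commute y v := by
        rw [← hm]
        exact (show Commute (y ^ 2) v from mul_inv_eq_iff_eq_mul.mp heq).pow_left m
      refine hv1 (h.hdisj v (h.hQP (hVQ hv.1)) hv.2 ?_)
      rw [hcomm'.eq, mul_inv_cancel_right]
      exact hv.2
    have hbot23 : R2 ⊓ R3 = ⊥ := by
      rw [eq_bot_iff]
      rintro x ⟨hx2, hx3⟩
      have h1 : y⁻¹ * x * y ∈ R ⊓ R2 := ⟨mem_cjS.mp hx2, mem_cjS.mpr (by
        have := mem_cjS.mp hx3
        rwa [show (y ^ 2)⁻¹ * x * y ^ 2 = y⁻¹ * (y⁻¹ * x * y) * y by rw [sq]; group] at this)⟩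
      rw [hbot, mem_bot] at h1
      rw [mem_bot]
      calc x = y * (y⁻¹ * x * y) * y⁻¹ := by group
        _ = 1 := by rw [h1]; group
    have hcen : ∀ x ∈ R3, ∀ u ∈ P, Commute x u := by
      intro x hx u hu
      rw [← hsupP, ← SetLike.mem_coe, coe_mul_of_left_le_normalizer_right R R2 (hRP.trans hPR2)] at hu
      obtain ⟨a, ha, b, hb, rfl⟩ := hu
      exact Commute.mul_right
        (commute_of_normalize (hR3P.trans hPR) (hRP.trans hPR3) hbot3 ha hx).symm
        (commute_of_normalize (hR3P.trans hPR2) (hR2P.trans hPR3) hbot23 hb hx).symm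
    apply hnab
    intro a ha b hb
    have := hcen _ (mem_map_of_mem (MulAut.conj (y ^ 2)).toMonoidHom ha) _
      (hR3P (mem_map_of_mem (MulAut.conj (y ^ 2)).toMonoidHom hb))
    exact Commute.of_map (f := (MulAut.conj (y ^ 2)).toMonoidHom) (MulAut.conj (y ^ 2)).injective this

theorem not_caseB (h : Push M P Q c y) (hnc : ¬ ∀ x ∈ Q, Commute c x)
    (hQ : Nat.card Q = 32) (hV0 : Nat.card h.V0 = 2) (hR : Q ⊓ centralizer {c} ≤ h.V) : False := by
  haveI : Fact (Nat.Prime 2) := ⟨Nat.prime_two⟩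
  obtain ⟨-, hcV, -⟩ := h.card_facts hnc
  rw [hV0] at hcV
  have hVQ : h.V ≤ Q := omC_le _
  have hinV : ∀ {x}, x ∈ Q → c * x * c⁻¹ * x⁻¹ ∈ h.V → x ∈ h.V := fun {x} hx hf => by
    obtain ⟨v, hv, hc⟩ := h.exists_fixed_of_comm_mem hnc hx hf
    have := hR ⟨mul_mem (hVQ hv) hx, mem_centralizer_singleton_iff.mpr hc.symm.eq⟩
    rw [show x = v⁻¹ * (v * x) by group]
    exact mul_mem (inv_mem hv) this
  have hab : ∀ a ∈ Q, ∀ b ∈ Q, a * b * a⁻¹ * b⁻¹ ∈ h.V := by
    haveI : (h.V.subgroupOf Q).Normal := normal_subgroupOf_of_le_normalizer fun q hq =>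
      mem_normalizer_of fun v hv => by rw [(h.commute_V hv hq).eq, mul_inv_cancel_right]; exact hv
    have hq4 : Nat.card (↥Q ⧸ h.V.subgroupOf Q) = 2 ^ 2 := by
      have := card_eq_card_quotient_mul_card_subgroup (h.V.subgroupOf Q)
      rw [hQ, Nat.card_congr (subgroupOfEquivOfLe hVQ).toEquiv, hcV] at this
      omega
    haveI : IsMulCommutative (↥Q ⧸ h.V.subgroupOf Q) := IsPGroup.isMulCommutative_of_card_eq_prime_sq hq4
    intro a ha b hb
    have e : (QuotientGroup.mk' (h.V.subgroupOf Q)) ⁅(⟨a, ha⟩ : ↥Q), ⟨b, hb⟩⁆ = 1 := by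
      rw [map_commutatorElement, commutatorElement_eq_one_iff_commute]
      exact mul_comm' _ _
    simpa [commutatorElement_def, mem_subgroupOf] using (QuotientGroup.eq_one_iff _).mp e
  have hstep : ∀ g ∈ normalizer (P : Set G), cjS g h.V ≤ Q := by
    intro g hg
    by_contra hne
    obtain ⟨s, hs, hsQ⟩ := SetLike.not_le_iff_exists.mp hne
    have hsP : s ∈ P := by
      obtain ⟨v, hv, rfl⟩ := hs
      exact conj_mem hg (h.hQP (hVQ hv))
    set D := Q ⊓ cjS g Q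
    have hgQP : cjS g Q ≤ P := by
      rintro _ ⟨q, hq, rfl⟩
      exact conj_mem hg (h.hQP hq)
    have hD16 : 16 ≤ Nat.card D := by
      have := card_mul_card_le h.hQP hgQP
      rw [show Nat.card (cjS g Q) = Nat.card Q from card_map_of_injective (MulAut.conj g).injective,
        h.card_P, hQ] at this
      have : 32 * 32 ≤ 2 * 32 * Nat.card D := this
      omega
    set D' := cjS c D
    have hD' : D' ≤ Q := by
      rintro _ ⟨d, hd, rfl⟩
      exact conj_mem h.cQ hd.1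
    have hDD : 8 ≤ Nat.card ↥(D ⊓ D') := by
      have := card_mul_card_le (inf_le_left : D ≤ Q) hD'
      rw [show Nat.card D' = Nat.card D from card_map_of_injective (MulAut.conj c).injective, hQ] at this
      nlinarith
    have hsD : ∀ d ∈ D, Commute s d := fun d hd => by
      have h1 : Commute (g⁻¹ * s * g) (g⁻¹ * d * g) :=
        (h.commute_V (mem_cjS.mp hs) (mem_cjS.mp hd.2)).symm
      have := (Commute.conj_iff g).mpr h1
      simpa [mul_assoc] using this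
    have hle : D ⊓ D' ≤ h.V0 := by
      rintro x ⟨hx, hx'⟩
      have h1 : Commute s x := hsD x hx
      have h2 : Commute (c * s * c⁻¹) x := by
        have := (Commute.conj_iff c).mpr (hsD _ (mem_cjS.mp hx'))
        simpa [mul_assoc] using this
      have hq := h.hinv s hsP hsQ
      set q := s * c * s⁻¹ * c with hqdef
      have hk : Commute (c ^ 2 * q⁻¹) x := by
        rw [show c ^ 2 * q⁻¹ = (c * s * c⁻¹) * s⁻¹ by rw [hqdef, sq]; group]
        exact h2.mul_left h1.inv_left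
      have hqx : q⁻¹ * x * q * x⁻¹ ∈ h.V := by simpa using hab q⁻¹ (inv_mem hq) x hx.1
      have hmem : c ^ 2 * x * (c ^ 2)⁻¹ * x⁻¹ ∈ h.V := by
        have e : c ^ 2 * x * (c ^ 2)⁻¹ * x⁻¹ = (c ^ 2 * (q⁻¹ * x * q * x⁻¹) * (c ^ 2)⁻¹)⁻¹ := by
          have e1 : c ^ 2 * q⁻¹ * x * (c ^ 2 * q⁻¹)⁻¹ = x := by rw [hk.eq, mul_inv_cancel_right]
          calc c ^ 2 * x * (c ^ 2)⁻¹ * x⁻¹
              = c ^ 2 * x * (c ^ 2)⁻¹ * (c ^ 2 * q⁻¹ * x * (c ^ 2 * q⁻¹)⁻¹)⁻¹ := by rw [e1]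
            _ = (c ^ 2 * (q⁻¹ * x * q * x⁻¹) * (c ^ 2)⁻¹)⁻¹ := by group
        rw [e]
        exact inv_mem (conj_mem (pow_mem h.cV 2) hqx)
      have hxV := hinV hx.1 (comm_mem_of_sq h.hodd h.cV hmem)
      refine h.mem_V0_of_commute hnc hxV (commute_of_sq h.hodd ?_)
      have h3 : Commute q x := h.commute_V hxV hq
      have h4 := hk.mul_left h3
      rwa [inv_mul_cancel_right] at h4
    have := card_le_of_le hle
    omega
  have hV2 := hstep y h.hy
  have hVy : h.V ≤ cjS y Q := fun v hv => mem_cjS.mpr (hstep y⁻¹ (inv_mem h.hy) (mem_cjS.mpr (by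
    simpa [mul_assoc] using hv)))
  have hne : ¬ cjS y h.V ≤ h.V := fun hle => by
    have hbot := h.hcore h.V (hVQ.trans h.hQP)
      (fun g hg => normalizer_le_normalizer_omC (h.hQn hg))
      (mem_normalizer_of fun s hs => hle (mem_map_of_mem _ hs))
    have := card_le_of_le hbot.le
    rw [card_bot] at this
    omega
  obtain ⟨a, ha2, haV⟩ := SetLike.not_le_iff_exists.mp hne
  have haQ : a ∈ Q := hV2 ha2
  have haa : a * a = 1 := by
    obtain ⟨v, hv, rfl⟩ := ha2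
    rw [← map_mul, ← sq, (mem_omC.mp hv).2.2, map_one]
  set a1 := c * a * c⁻¹ with ha1
  have ha1Q : a1 ∈ Q := conj_mem h.cQ haQ
  have ha11 : a1 * a1 = 1 := by
    rw [ha1, show c * a * c⁻¹ * (c * a * c⁻¹) = c * (a * a) * c⁻¹ by group, haa]; group
  set a2 := c * a1 * c⁻¹ with ha2def
  have ha2Q : a2 ∈ Q := conj_mem h.cQ ha1Q
  have ha22 : a2 * a2 = 1 := by
    rw [ha2def, show c * a1 * c⁻¹ * (c * a1 * c⁻¹) = c * (a1 * a1) * c⁻¹ by group, ha11]; group
  have n1 : a1 * a⁻¹ ∉ h.V := fun e => haV (hinV haQ e)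
  have n2 : a2 * a⁻¹ ∉ h.V := fun e => haV (hinV haQ (comm_mem_of_sq h.hodd h.cV (by
    rwa [show c ^ 2 * a * (c ^ 2)⁻¹ = a2 by rw [ha2def, ha1, sq]; group])))
  have n3 : a2 * a1⁻¹ ∉ h.V := fun e => n1 (by
    have := conj_mem' h.cV e
    rwa [show c⁻¹ * (a2 * a1⁻¹) * c = a1 * a⁻¹ by rw [ha2def, ha1]; group] at this)
  have ha1V : a1 ∉ h.V := fun e => haV (by
    have := conj_mem' h.cV e
    rwa [show c⁻¹ * a1 * c = a by rw [ha1]; group] at this)
  have ha2V : a2 ∉ h.V := fun e => ha1V (by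
    have := conj_mem' h.cV e
    rwa [show c⁻¹ * a2 * c = a1 by rw [ha2def]; group] at this)
  set E := h.V ⊔ zpowers a with hEdef
  have hEQ : E ≤ Q := sup_le hVQ (zpowers_le.mpr haQ)
  have hEmem : ∀ {e}, e ∈ E → e ∈ h.V ∨ e * a⁻¹ ∈ h.V := by
    intro e he
    rw [← SetLike.mem_coe, coe_mul_of_right_le_normalizer_left h.V (zpowers a)
      (zpowers_le.mpr (mem_normalizer_of fun v hv => by
        rw [(h.commute_V hv haQ).eq, mul_inv_cancel_right]; exact hv))] at he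
    obtain ⟨v, hv, b, hb, rfl⟩ := he
    obtain ⟨k, rfl⟩ := mem_zpowers_iff.mp hb
    rcases Int.even_or_odd k with ⟨j, rfl⟩ | ⟨j, rfl⟩
    · left
      show v * a ^ (j + j) ∈ h.V
      rw [← two_mul, _root_.zpow_mul, zpow_ofNat, sq, haa, _root_.one_zpow, mul_one]
      exact hv
    · right
      show v * a ^ (2 * j + 1) * a⁻¹ ∈ h.V
      rw [_root_.zpow_add, _root_.zpow_mul, zpow_ofNat, sq, haa, _root_.one_zpow, one_mul, _root_.zpow_one,
        mul_inv_cancel_right]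
      exact hv
  have hE16 : Nat.card Q ≤ 2 * Nat.card E := by
    have : 2 * Nat.card h.V ≤ Nat.card E := two_mul_card_le (le_sup_left : h.V ≤ E) fun e => haV (e ▸ mem_sup_right (mem_zpowers a))
    omega
  have ha1E : a1 ∉ E := fun e => (hEmem e).elim ha1V n1
  have ha2E : a2 ∉ E := fun e => (hEmem e).elim ha2V n2
  have hq := mul_inv_mem_of_two hEQ hE16 ha2Q ha2E ha1Q ha1E
  rcases hEmem hq with e | e
  · exact n3 e
  set v := a2 * a1⁻¹ * a⁻¹ with hv
  have ea : a2 = v * (a * a1) := by rw [hv]; group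
  have hsq : (a * a1) * (a * a1) = 1 := by
    have h1 : Commute v (a * a1) := (h.commute_V e (mul_mem haQ ha1Q)).symm
    calc (a * a1) * (a * a1) = (v * v) * ((a * a1) * (a * a1)) := by
          rw [← sq v, (mem_omC.mp e).2.2, one_mul]
      _ = (v * (a * a1)) * (v * (a * a1)) := (h1.mul_mul_mul_comm _ _).symm ▸ rfl
      _ = 1 := by rw [← ea, ha22]
  have hcomm1 : Commute a a1 := by
    show a * a1 = a1 * a
    calc a * a1 = (a * a1 * (a * a1)) * (a1⁻¹ * a⁻¹) := by group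
      _ = a1 * a := by rw [hsq, one_mul, inv_eq_of_mul_eq_one_right ha11, inv_eq_of_mul_eq_one_right haa]
  have hall : ∀ q ∈ Q, Commute a q := by
    intro q hq'
    have hEa : ∀ {x}, x ∈ E → Commute a x := fun {x} hx => by
      rcases hEmem hx with h0 | h0
      · exact h.commute_V h0 haQ
      · rw [show x = x * a⁻¹ * a by group]
        exact (h.commute_V h0 haQ).mul_right (Commute.refl a)
    by_cases hqE : q ∈ E
    · exact hEa hqE
    · rw [show q = q * a1⁻¹ * a1 by group]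
      exact (hEa (mul_inv_mem_of_two hEQ hE16 hq' hqE ha1Q ha1E)).mul_right hcomm1
  exact haV (mem_omC.mpr ⟨haQ, hall, by rw [sq, haa]⟩)

theorem card_cases (h : Push M P Q c y) (hnc : ¬ ∀ x ∈ Q, Commute c x)
    (hy2 : y ^ 2 ∈ normalizer (Q : Set G) ∨ Odd (orderOf y)) :
    (Nat.card P = 8 ∨ Nat.card P = 16) ∧ Q = h.V := by
  obtain ⟨-, hcV, hle⟩ := h.card_facts hnc
  have hVQ : h.V ≤ Q := omC_le _
  have hP := h.card_P
  have hQV := card_le_of_le hVQ
  have hpos : 0 < Nat.card h.V0 := Nat.card_pos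
  rcases (show Nat.card h.V0 = 1 ∨ Nat.card h.V0 = 2 by omega) with h0 | h0
  · obtain ⟨t, ht, h3, h2⟩ := h.bound_one hnc (card_eq_one.mp h0)
    interval_cases t <;> first
      | omega
      | exact ⟨Or.inl (by omega), (eq_of_le_of_card_ge hVQ (by omega)).symm⟩
  · obtain ⟨t, ht, h6, h5⟩ := h.bound_two hnc
    interval_cases t <;> first
      | omega
      | exact ⟨Or.inr (by omega), (eq_of_le_of_card_ge hVQ (by omega)).symm⟩
      | exact absurd (show Nat.card Q = 32 by omega) fun hQ => (em (Q ⊓ centralizer {c} ≤ h.V)).elim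
          (h.not_caseB hnc hQ h0) (h.not_caseA hnc hy2 hQ h0)

end Push

end CfsgLib.DihedralPush
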