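import Cfsg.Agent.Lib.DihedralPush.Structure
import Cfsg.Agent.Lib.Solvable.Core
import Cfsg.Prelude.Def_CaseTheorems
import Mathlib.GroupTheory.SpecificGroups.Dihedral
import Mathlib.GroupTheory.SpecificGroups.KleinFour

/-!
From `M / O₂(M)` dihedral to the dihedral pushing-up setting, and the degenerate case in which the
rotations centralize `O₂(M)`.
-/

set_option autoImplicit false

open Subgroup
open scoped Pointwise commutatorElement

namespace CfsgLib.DihedralPush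

variable {G : Type*} [Group G] [Finite G]

theorem odd_of_dihedral {M : Subgroup G} {n : ℕ} (hn : n ≠ 0)
    (e : ↥M ⧸ Cfsg.pCore 2 ↥M ≃* DihedralGroup n)
    [(Cfsg.pCore 2 ↥M).Normal] : Odd n := by
  haveI : Fact (Nat.Prime 2) := ⟨Nat.prime_two⟩
  haveI : NeZero n := ⟨hn⟩
  by_contra hodd
  obtain ⟨m, hm⟩ := even_iff_two_dvd.mp (Nat.not_odd_iff_even.mp hodd)
  set z : DihedralGroup n := DihedralGroup.r (m : ZMod n) with hz
  have hmm : (m : ZMod n) + m = 0 := by rw [← Nat.cast_add, show m + m = n by omega, ZMod.natCast_self]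
  have hz2 : z * z = 1 := by rw [hz, DihedralGroup.r_mul_r, hmm, DihedralGroup.one_def]
  have hz1 : z ≠ 1 := by
    rw [hz, DihedralGroup.one_def]
    intro h
    injection h with h
    have := congrArg ZMod.val h
    rw [ZMod.val_natCast_of_lt (by omega), ZMod.val_zero] at this
    omega
  have hcen : z ∈ center (DihedralGroup n) := mem_center_iff.mpr fun g => by
    rcases g with i | i
    · rw [hz, DihedralGroup.r_mul_r, DihedralGroup.r_mul_r, add_comm]
    · rw [hz, DihedralGroup.sr_mul_r, DihedralGroup.r_mul_sr, sub_eq_add_neg,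
        neg_eq_of_add_eq_zero_left hmm]
  have hN : (zpowers z).Normal := ⟨fun a ha g => by
    have : a ∈ center (DihedralGroup n) := (zpowers_le.mpr hcen) ha
    rw [mem_center_iff.mp this g, mul_inv_cancel_right]
    exact ha⟩
  have hp : IsPGroup 2 (zpowers z) := by
    rw [IsPGroup.iff_card]
    refine ⟨1, ?_⟩
    rw [Nat.card_zpowers, pow_one]
    exact orderOf_eq_prime (by rw [sq, hz2]) hz1
  have h2 : (zpowers z).map e.symm.toMonoidHom ≤ Cfsg.pCore 2 (↥M ⧸ Cfsg.pCore 2 ↥M) :=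
    CfsgLib.Solvable.le_pCore (hN.map _ e.symm.surjective) (hp.map _)
  rw [CfsgLib.Solvable.pCore_quotient_eq_bot _ rfl, le_bot_iff,
    map_eq_bot_iff_of_injective _ e.symm.injective, zpowers_eq_bot] at h2
  exact hz1 h2

theorem orderOf_sr_two {n : ℕ} (i : ZMod n) : DihedralGroup.sr i * DihedralGroup.sr i = 1 := by
  rw [DihedralGroup.sr_mul_sr, sub_self, DihedralGroup.one_def]

/-- The data of the setting, from a dihedral quotient by the 2-core. -/
theorem exists_data {M P : Subgroup G} {n : ℕ} (hn : n ≠ 0)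
    [(Cfsg.pCore 2 ↥M).Normal] (e : ↥M ⧸ Cfsg.pCore 2 ↥M ≃* DihedralGroup n)
    (hPM : P ≤ M) (hP : IsPGroup 2 P) (hsyl : ¬ 2 ∣ P.relIndex M) :
    ∃ (Q : Subgroup G) (c : G), Q = (Cfsg.pCore 2 ↥M).map M.subtype ∧ Q ≤ P ∧
      M ≤ normalizer (Q : Set G) ∧ c ∈ M ∧ Odd (orderOf c) ∧ Q.relIndex P = 2 ∧
      (∀ t ∈ P, t ∉ Q → t * c * t⁻¹ * c ∈ Q) ∧ (∀ m ∈ M, ∃ k : ℤ, ∃ u ∈ P, m = c ^ k * u) ∧
      (∀ m ∈ M, Odd (orderOf m) → ∃ k : ℤ, ∃ u ∈ Q, m = c ^ k * u) ∧ (c ∈ Q → n = 1) := by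
  haveI : Fact (Nat.Prime 2) := ⟨Nat.prime_two⟩
  haveI : NeZero n := ⟨hn⟩
  have hodd := odd_of_dihedral hn e
  set O := Cfsg.pCore 2 ↥M with hO
  let π : ↥M →* DihedralGroup n := e.toMonoidHom.comp (QuotientGroup.mk' O)
  have hπs : Function.Surjective π := e.surjective.comp (QuotientGroup.mk'_surjective O)
  have hπ : ∀ x : ↥M, π x = 1 ↔ x ∈ O := fun x => by
    rw [← QuotientGroup.eq_one_iff, ← map_eq_one_iff e e.injective]
    rfl
  let Q : Subgroup G := O.map M.subtype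
  have hmemQ : ∀ x : ↥M, (x : G) ∈ Q ↔ x ∈ O := fun x =>
    mem_map_iff_mem (f := M.subtype) Subtype.val_injective
  have hQM : Q ≤ M := map_subtype_le _
  have hPs : ¬ 2 ∣ (P.subgroupOf M).index := hsyl
  have hP' : IsPGroup 2 (P.subgroupOf M) := hP.of_equiv (subgroupOfEquivOfLe hPM).symm
  have hOP : O ≤ P.subgroupOf M := by
    have := CfsgLib.Solvable.pCore_le_sylow (hP'.toSylow hPs)
    rwa [IsPGroup.toSylow_coe] at this
  have hQP : Q ≤ P := by
    rintro _ ⟨x, hx, rfl⟩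
    exact mem_subgroupOf.mp (hOP hx)
  have hQn : M ≤ normalizer (Q : Set G) := fun m hm => mem_normalizer_of fun s hs => by
    obtain ⟨x, hx, rfl⟩ := hs
    exact ⟨⟨m, hm⟩ * x * ⟨m, hm⟩⁻¹, Subgroup.Normal.conj_mem inferInstance x hx _, rfl⟩
  have hcardM : Nat.card ↥M = 2 * n * Nat.card Q := by
    rw [card_eq_card_quotient_mul_card_subgroup O, Nat.card_congr e.toEquiv, DihedralGroup.nat_card,
      card_map_of_injective M.subtype_injective]
  have hidx : Q.relIndex P = 2 := by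
    have h1 : Nat.card P * P.relIndex M = Nat.card ↥M := by
      have := relIndex_mul_relIndex ⊥ P M bot_le hPM
      rwa [relIndex_bot_left, relIndex_bot_left] at this
    have h2 : Nat.card Q * Q.relIndex P = Nat.card P := by
      have := relIndex_mul_relIndex ⊥ Q P bot_le hQP
      rwa [relIndex_bot_left, relIndex_bot_left] at this
    rw [hcardM, ← h2, mul_assoc, mul_comm (2 * n) (Nat.card Q)] at h1
    have h3 : Q.relIndex P * P.relIndex M = 2 * n := Nat.eq_of_mul_eq_mul_left Nat.card_pos h1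
    obtain ⟨a, ha⟩ := hP.exists_card_eq
    have h4 : ∃ b, Q.relIndex P = 2 ^ b := by
      obtain ⟨b, -, hb⟩ := (Nat.dvd_prime_pow Nat.prime_two).mp (ha ▸ h2 ▸ dvd_mul_left (Q.relIndex P) (Nat.card Q))
      exact ⟨b, hb⟩
    obtain ⟨b, hb⟩ := h4
    rw [hb] at h3 ⊢
    rcases b with _ | _ | b
    · exfalso
      rw [pow_zero, one_mul] at h3
      exact hsyl (h3 ▸ dvd_mul_right 2 n)
    · rfl
    · exfalso
      rw [pow_succ', mul_assoc] at h3
      have h5 : 2 ^ (b + 1) * P.relIndex M = n := by omega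
      rw [pow_succ', mul_assoc] at h5
      exact (Nat.not_even_iff_odd.mpr hodd) (even_iff_two_dvd.mpr ⟨_, h5.symm⟩)
  obtain ⟨c0, hc0⟩ := hπs (DihedralGroup.r 1)
  obtain ⟨a, l, hl, hal⟩ := Nat.exists_eq_two_pow_mul_odd (n := orderOf c0) (orderOf_pos c0).ne'
  have hro : Odd (orderOf (DihedralGroup.r (1 : ZMod n))) := by rwa [DihedralGroup.orderOf_r_one]
  obtain ⟨j, hj⟩ := exists_pow_self hro a
  set c1 : ↥M := (c0 ^ (2 ^ a)) ^ j with hc1
  have hπc : π c1 = DihedralGroup.r 1 := by rw [hc1, map_pow, map_pow, hc0, hj]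
  have hcodd : Odd (orderOf ((c1 : ↥M) : G)) := by
    rw [Subgroup.orderOf_coe]
    refine Odd.of_dvd_nat hl (orderOf_dvd_of_pow_eq_one ?_)
    rw [hc1, ← pow_mul, ← pow_mul, show 2 ^ a * (j * l) = 2 ^ a * l * j by ring, pow_mul, ← hal,
      pow_orderOf_eq_one, one_pow]
  have hrot : ∀ m : ↥M, ∀ i : ZMod n, π m = DihedralGroup.r i →
      ∃ k : ℤ, ∃ u ∈ Q, (m : G) = (c1 : G) ^ k * u := by
    intro m i hi
    refine ⟨(i.val : ℤ), ((c1 ^ i.val)⁻¹ * m : ↥M), (hmemQ _).mpr ((hπ _).mp ?_), ?_⟩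
    · rw [map_mul, map_inv, map_pow, hπc, hi, DihedralGroup.r_one_pow, ZMod.natCast_zmod_val,
        inv_mul_cancel]
    · exact (congrArg Subtype.val (mul_inv_cancel_left (c1 ^ i.val) m).symm).trans
        (by rw [zpow_natCast]; rfl)
  have hsr : ∀ t : ↥M, (t : G) ∈ P → (t : G) ∉ Q → ∃ i, π t = DihedralGroup.sr i := by
    intro t ht htQ
    rcases hi : π t with i | i
    · exfalso
      apply htQ
      rw [hmemQ, ← hπ]
      have h1 : π t ^ n = 1 := by
        rw [hi, DihedralGroup.r_pow, ZMod.natCast_self, mul_zero, DihedralGroup.one_def]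
      obtain ⟨b, hb⟩ := exists_pow_two hP ht
      have h2 : π t ^ (2 ^ b) = 1 := by
        rw [← map_pow, show t ^ (2 ^ b) = 1 from Subtype.ext (by simpa using hb), map_one]
      exact eq_one_of_odd_of_pow_two (Odd.of_dvd_nat hodd (orderOf_dvd_of_pow_eq_one h1)) h2
    · exact ⟨i, rfl⟩
  refine ⟨Q, c1, rfl, hQP, hQn, c1.2, hcodd, hidx, ?_, ?_, ?_, ?_⟩
  · intro t ht htQ
    obtain ⟨i, hi⟩ := hsr ⟨t, hPM ht⟩ ht htQ
    have := (hmemQ (⟨t, hPM ht⟩ * c1 * ⟨t, hPM ht⟩⁻¹ * c1)).mpr ((hπ _).mp (by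
      rw [map_mul, map_mul, map_mul, map_inv, hi, hπc, DihedralGroup.inv_sr,
        DihedralGroup.sr_mul_r, DihedralGroup.sr_mul_sr, DihedralGroup.r_mul_r,
        DihedralGroup.one_def]
      congr 1
      ring))
    exact this
  · intro m hm
    rcases hi : π ⟨m, hm⟩ with i | i
    · obtain ⟨k, u, hu, e'⟩ := hrot ⟨m, hm⟩ i hi
      exact ⟨k, u, hQP hu, e'⟩
    · have ⟨t, ht, htQ⟩ : ∃ t ∈ P, t ∉ Q := by
        by_contra! hall
        rw [relIndex_eq_one.mpr hall] at hidx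
        norm_num at hidx
      obtain ⟨j', hj'⟩ := hsr ⟨t, hPM ht⟩ ht htQ
      obtain ⟨k, u, hu, e'⟩ := hrot (⟨m, hm⟩ * ⟨t, hPM ht⟩⁻¹) (j' - i) (by
        rw [map_mul, map_inv, hi, hj', DihedralGroup.inv_sr, DihedralGroup.sr_mul_sr])
      refine ⟨k, u * t, mul_mem (hQP hu) ht, ?_⟩
      have e'' : m * t⁻¹ = (c1 : G) ^ k * u := e'
      rw [← mul_assoc, ← e'', inv_mul_cancel_right]
  · intro m hm hmo
    rcases hi : π ⟨m, hm⟩ with i | i
    · exact hrot ⟨m, hm⟩ i hi
    · exfalso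
      have h1 : π ⟨m, hm⟩ ^ (2 ^ 1) = 1 := by
        rw [hi, pow_one, sq, orderOf_sr_two]
      have h2 : Odd (orderOf (π ⟨m, hm⟩)) := by
        refine Odd.of_dvd_nat hmo ?_
        rw [← Subgroup.orderOf_mk m hm]
        exact orderOf_map_dvd π _
      rw [eq_one_of_odd_of_pow_two h2 h1, DihedralGroup.one_def] at hi
      cases hi
  · intro hc
    have h1 : π c1 = 1 := (hπ _).mpr ((hmemQ _).mp hc)
    rw [hπc] at h1
    have h2 := congrArg orderOf h1
    rwa [DihedralGroup.orderOf_r_one, orderOf_one] at h2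

variable {M P Q : Subgroup G} {c y : G}

namespace Push

/-- The kernel of the homomorphisms found below is the odd core. -/
theorem oddCore_eq_ker (h : Push M P Q c y) {X : Type*} [Group X] (ψ : ↥M →* X)
    (hoc : ∀ m ∈ M, Odd (orderOf m) → ∃ k : ℤ, ∃ u ∈ Q, m = c ^ k * u)
    (hker : ∀ x : ↥M, x ∈ ψ.ker ↔ ((x : G) ∈ zpowers c ∧ ∀ q ∈ Q, Commute (x : G) q)) :
    Cfsg.oddCore ↥M = ψ.ker := by
  haveI : Fact (Nat.Prime 2) := ⟨Nat.prime_two⟩
  refine le_antisymm ?_ (CfsgLib.Solvable.le_pPrimeCore (MonoidHom.normal_ker ψ) ?_)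
  · intro x hx
    rw [hker]
    have hodd : Odd (orderOf (x : G)) := by
      rw [Subgroup.orderOf_coe]
      refine Odd.of_dvd_nat ?_ (orderOf_dvd_natCard _ hx)
      exact Nat.coprime_two_right.mp (CfsgLib.Solvable.pPrimeCore_card_coprime 2 ↥M)
    have hcomm : ∀ q ∈ Q, Commute (x : G) q := by
      intro q hq
      let O' := (Cfsg.oddCore ↥M).map M.subtype
      have hO'n : M ≤ normalizer (O' : Set G) := fun m hm => mem_normalizer_of fun s hs => by
        obtain ⟨z, hz, rfl⟩ := hs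
        exact ⟨⟨m, hm⟩ * z * ⟨m, hm⟩⁻¹,
          (CfsgLib.Solvable.pPrimeCore_normal 2 ↥M).conj_mem z hz _, rfl⟩
      refine commute_of_normalize ((h.hQP.trans h.hPM).trans hO'n)
        ((map_subtype_le _).trans h.hQn) ?_ (mem_map_of_mem M.subtype hx) hq
      rw [eq_bot_iff]
      rintro z ⟨⟨z', hz', rfl⟩, hzQ⟩
      obtain ⟨j, hj⟩ := exists_pow_two h.isPGroupQ hzQ
      refine eq_one_of_odd_of_pow_two ?_ hj
      show Odd (orderOf ((z' : ↥M) : G))
      rw [Subgroup.orderOf_coe]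
      exact Odd.of_dvd_nat (Nat.coprime_two_right.mp (CfsgLib.Solvable.pPrimeCore_card_coprime 2 ↥M))
        (orderOf_dvd_natCard _ hz')
    obtain ⟨k, u, hu, e⟩ := hoc x x.2 hodd
    have h1 : Commute (c ^ k) u := by
      have h2 := (hcomm u hu).eq
      rw [e, mul_assoc] at h2
      show c ^ k * u = u * c ^ k
      exact mul_right_cancel (b := u) (by rw [mul_assoc, h2]; group)
    have hu1 : u = 1 := by
      obtain ⟨j, hj⟩ := exists_pow_two h.isPGroupQ hu
      have hxp : (c ^ k) ^ (2 ^ j) = (x : G) ^ (2 ^ j) := by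
        rw [e, h1.mul_pow, hj, mul_one]
      obtain ⟨m₁, hm₁⟩ := exists_pow_self (x := (x : G)) hodd j
      have hck : Odd (orderOf (c ^ k)) :=
        Odd.of_dvd_nat h.hodd (orderOf_dvd_of_mem_zpowers ⟨k, rfl⟩)
      have hxc : (x : G) ∈ zpowers c := by
        rw [← hm₁, ← hxp]
        exact pow_mem (pow_mem (zpow_mem (mem_zpowers c) k) _) _
      obtain ⟨i, hi⟩ := mem_zpowers_iff.mp hxc
      have hu' : c ^ (i - k) = u := by
        rw [show i - k = -k + i by ring, zpow_add, hi, e, zpow_neg, inv_mul_cancel_left]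
      rw [← hu'] at hu ⊢
      exact h.eq_one_of_zpow_mem (h.hQP hu)
    exact ⟨⟨k, by rw [e, hu1, mul_one]⟩, hcomm⟩
  · rw [Nat.coprime_two_right, ← Nat.not_even_iff_odd, even_iff_two_dvd]
    intro h2
    obtain ⟨z, hz⟩ := exists_prime_orderOf_dvd_card' (G := ↥ψ.ker) 2 h2
    have h3 : (z : ↥M) ∈ ψ.ker := z.2
    have h4 := orderOf_dvd_of_mem_zpowers ((hker _).mp h3).1
    rw [Subgroup.orderOf_coe, Subgroup.orderOf_coe, hz] at h4
    exact (Nat.not_even_iff_odd.mpr (h.hodd)) (even_iff_two_dvd.mpr h4)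

/-- The degenerate case: the rotations centralize `Q`. -/
theorem central_case (h : Push M P Q c y) (hc : ∀ x ∈ Q, Commute c x)
    (hy2 : y ^ 2 ∈ normalizer (Q : Set G)) :
    Nat.card P = 4 ∧ ∃ ψ : ↥M →* Multiplicative (ZMod 2) × Multiplicative (ZMod 2),
      Function.Surjective ψ ∧
      ∀ x : ↥M, x ∈ ψ.ker ↔ ((x : G) ∈ zpowers c ∧ ∀ q ∈ Q, Commute (x : G) q) := by
  haveI : Fact (Nat.Prime 2) := ⟨Nat.prime_two⟩
  set D := Q ⊓ cjS y Q with hD
  have hPy : ∀ {u}, u ∈ P → u ∈ normalizer (cjS y Q : Set G) := fun hu =>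
    conj_normalizer (h.pQ (conj_mem' h.hy hu))
  have hDM : M ≤ normalizer (D : Set G) := fun m hm => by
    obtain ⟨k, u, hu, rfl⟩ := h.hdec m hm
    refine mul_mem ?_ (mem_normalizer_of fun s hs => ⟨conj_mem (h.pQ hu) hs.1, conj_mem (hPy hu) hs.2⟩)
    refine mem_normalizer_of fun s hs => ?_
    rw [((hc s hs.1).zpow_left k).eq, mul_inv_cancel_right]
    exact hs
  have hDy : y ∈ normalizer (D : Set G) := mem_normalizer_of fun s hs => by
    refine ⟨?_, mem_cjS.mpr ?_⟩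
    · have := mem_cjS.mp hs.2
      have := conj_mem hy2 this
      rwa [show y ^ 2 * (y⁻¹ * s * y) * (y ^ 2)⁻¹ = y * s * y⁻¹ by rw [sq]; group] at this
    · rw [show y⁻¹ * (y * s * y⁻¹) * y = s by group]
      exact hs.1
  have hD0 : D = ⊥ := h.hcore D (inf_le_left.trans h.hQP) hDM hDy
  have hyQP : cjS y Q ≤ P := by
    rintro _ ⟨q, hq, rfl⟩
    exact conj_mem h.hy (h.hQP hq)
  have hcQ : Nat.card (cjS y Q) = Nat.card Q := card_map_of_injective (MulAut.conj y).injective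
  have hQ2 : Nat.card Q = 2 := by
    have h1 := card_mul_card_le h.hQP hyQP
    rw [hcQ, ← hD, hD0, card_bot, mul_one, h.card_P] at h1
    have h2 : Nat.card Q ≤ 2 := Nat.le_of_mul_le_mul_right h1 Nat.card_pos
    have h3 : Nat.card Q ≠ 1 := fun h4 => h.hne (card_eq_one.mp h4)
    have h4 : 0 < Nat.card Q := Nat.card_pos
    omega
  have hP4 : Nat.card P = 4 := by rw [h.card_P, hQ2]
  have hsq : ∀ u ∈ P, u * u = 1 := by
    intro u hu
    have key : ∀ S : Subgroup G, S ≤ P → Nat.card P ≤ 2 * Nat.card S → u * u ∈ S := by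
      intro S hS hS2
      by_cases huS : u ∈ S
      · exact mul_mem huS huS
      · have := mul_inv_mem_of_two hS hS2 hu huS (inv_mem hu) (fun hh => huS (inv_mem_iff.mp hh))
        rwa [inv_inv] at this
    have : u * u ∈ D := ⟨key Q h.hQP h.card_P.le, key _ hyQP (by rw [hcQ]; exact h.card_P.le)⟩
    rwa [hD0, mem_bot] at this
  haveI hKn : ((zpowers c).subgroupOf M).Normal := by
    refine normal_subgroupOf_of_le_normalizer fun m hm => ?_
    obtain ⟨k, u, hu, rfl⟩ := h.hdec m hm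
    refine mul_mem (zpow_mem (le_normalizer (mem_zpowers c)) k) (mem_normalizer_of fun s hs => ?_)
    obtain ⟨i, rfl⟩ := mem_zpowers_iff.mp hs
    rw [← conj_zpow]
    refine zpow_mem ?_ i
    by_cases huQ : u ∈ Q
    · rw [(hc u huQ).symm.eq, mul_inv_cancel_right]
      exact mem_zpowers c
    · have hq := h.hinv u hu huQ
      set q := u * c * u⁻¹ * c with hqd
      have hq' : u * c * u⁻¹ = q * c⁻¹ := by rw [hqd]; group
      have hn : (q * c⁻¹) ^ orderOf c = 1 := by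
        rw [← hq', conj_pow, pow_orderOf_eq_one, mul_one, mul_inv_cancel]
      rw [(hc q hq).symm.inv_right.mul_pow, inv_pow, pow_orderOf_eq_one, inv_one, mul_one] at hn
      obtain ⟨j, hj⟩ := exists_pow_two h.isPGroupQ hq
      rw [hq', eq_one_of_odd_of_pow_two (Odd.of_dvd_nat h.hodd (orderOf_dvd_of_pow_eq_one hn)) hj,
        one_mul]
      exact inv_mem (mem_zpowers c)
  let f : ↥P →* ↥M ⧸ (zpowers c).subgroupOf M :=
    (QuotientGroup.mk' _).comp (inclusion h.hPM)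
  have hf : Function.Bijective f := by
    constructor
    · rw [injective_iff_map_eq_one]
      intro u hu
      have h1 := mem_subgroupOf.mp ((QuotientGroup.eq_one_iff _).mp hu)
      obtain ⟨k, hk⟩ := mem_zpowers_iff.mp h1
      have hk' : c ^ k = (u : G) := hk
      exact Subtype.ext (hk' ▸ h.eq_one_of_zpow_mem (hk'.symm ▸ u.2))
    · intro x
      obtain ⟨m, rfl⟩ := QuotientGroup.mk_surjective x
      obtain ⟨k, u, hu, e⟩ := h.hdec m m.2
      refine ⟨⟨u, hu⟩, QuotientGroup.eq.mpr (mem_subgroupOf.mpr ?_)⟩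
      show u⁻¹ * (m : G) ∈ zpowers c
      have hn : (zpowers c).subgroupOf M = (zpowers c).subgroupOf M := rfl
      have := hKn.conj_mem ⟨c ^ k, zpow_mem h.hcM k⟩ (mem_subgroupOf.mpr ⟨k, rfl⟩) ⟨u, h.hPM hu⟩⁻¹
      rw [mem_subgroupOf] at this
      simpa [e, mul_assoc] using this
  haveI : Nontrivial ↥P := Finite.one_lt_card_iff_nontrivial.mp (by omega)
  haveI : IsKleinFour ↥P := ⟨hP4, (Monoid.exponent_eq_prime_iff Nat.prime_two).mpr fun g hg =>
    orderOf_eq_prime (by rw [sq]; exact Subtype.ext (hsq g g.2)) hg⟩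
  haveI : IsKleinFour (Multiplicative (ZMod 2) × Multiplicative (ZMod 2)) := ⟨by simp, by
    rw [Monoid.exponent_eq_prime_iff Nat.prime_two]
    intro g hg
    refine orderOf_eq_prime ?_ hg
    clear hg
    revert g
    decide +revert⟩
  obtain ⟨i⟩ := IsKleinFour.nonempty_mulEquiv (G₁ := ↥P)
    (G₂ := Multiplicative (ZMod 2) × Multiplicative (ZMod 2))
  let e := (MulEquiv.ofBijective f hf).symm.trans i
  refine ⟨hP4, e.toMonoidHom.comp (QuotientGroup.mk' _),
    e.surjective.comp (QuotientGroup.mk'_surjective _), fun x => ?_⟩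
  rw [MonoidHom.mem_ker, MonoidHom.comp_apply, show e.toMonoidHom (QuotientGroup.mk' _ x) =
    e (x : ↥M ⧸ (zpowers c).subgroupOf M) from rfl, map_eq_one_iff e e.injective,
    QuotientGroup.eq_one_iff, mem_subgroupOf]
  refine ⟨fun hx => ⟨hx, fun q hq => ?_⟩, fun hx => hx.1⟩
  obtain ⟨k, hk⟩ := mem_zpowers_iff.mp hx
  exact hk ▸ (hc q hq).zpow_left k

end Push

end CfsgLib.DihedralPush
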