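import Cfsg.Agent.Lib.DihedralPush.Bound

/-!
The structure of `M` in the dihedral pushing-up setting: `S₄` or `S₄ × 2` modulo the kernel of the
action of the rotations on `Q`.
-/

set_option autoImplicit false

open Subgroup
open scoped Pointwise commutatorElement

namespace CfsgLib.DihedralPush

variable {G : Type*} [Group G] [Finite G] {M P Q : Subgroup G} {c y : G}

namespace Push

theorem mem_sup_W_V0 (h : Push M P Q c y) (hnc : ¬ ∀ x ∈ Q, Commute c x) {v : G} (hv : v ∈ h.V) :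
    ∃ w ∈ h.W, ∃ v₀ ∈ h.V0, v = w * v₀ := by
  have hle : h.W ⊔ h.V0 ≤ h.V := sup_le h.W_le_V inf_le_left
  have hinf : h.W ⊓ h.V0 = ⊥ := by
    rw [eq_bot_iff]
    rintro w ⟨hw, hw0⟩
    exact h.W_inf_V0 hw ((mem_centralizer_iff.mp hw0.2) c h.hcM)
  have h1 := card_mul_card_le (le_sup_left : h.W ≤ h.W ⊔ h.V0) (le_sup_right : h.V0 ≤ h.W ⊔ h.V0)
  rw [hinf, card_bot, mul_one, h.card_W hnc, ← (h.card_facts hnc).2.1] at h1
  have hv' := (eq_of_le_of_card_ge hle h1).ge hv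
  rw [← SetLike.mem_coe, coe_mul_of_left_le_normalizer_right h.W h.V0 (fun w hw => mem_normalizer_of
    fun s hs => by rw [(h.V_comm (h.W_le_V hw) hs.1).eq, mul_inv_cancel_right]; exact hs)] at hv'
  obtain ⟨w, hw, v₀, hv₀, e⟩ := hv'
  exact ⟨w, hw, v₀, hv₀, e.symm⟩

/-- There is an involution of `P` inverting `c`. -/
theorem exists_inverting (h : Push M P Q c y) (hnc : ¬ ∀ x ∈ Q, Commute c x) (hQ : Q = h.V) :
    ∃ t ∈ P, t ∉ Q ∧ t ^ 2 = 1 ∧ t * c * t⁻¹ = c⁻¹ ∧ t ∈ normalizer (h.W : Set G) := by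
  obtain ⟨t₀, ht₀, ht₀Q⟩ := h.exists_t
  have hVQ : h.V ≤ Q := omC_le _
  obtain ⟨w, hw, v₀, hv₀, e⟩ := h.mem_sup_W_V0 hnc (hQ.le (h.hinv t₀ ht₀ ht₀Q))
  have hv1 : v₀ = 1 := by
    have hcomm : Commute v₀ (w * c⁻¹) :=
      (h.V_comm hv₀.1 (h.W_le_V hw)).mul_right
        ((show Commute c v₀ from (mem_centralizer_iff.mp hv₀.2) c h.hcM).symm.inv_right)
    have e' : t₀ * c * t₀⁻¹ = v₀ * (w * c⁻¹) := by
      calc t₀ * c * t₀⁻¹ = (t₀ * c * t₀⁻¹ * c) * c⁻¹ := by group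
        _ = (w * v₀) * c⁻¹ := by rw [e]
        _ = (v₀ * w) * c⁻¹ := by rw [(h.V_comm (h.W_le_V hw) hv₀.1).eq]
        _ = v₀ * (w * c⁻¹) := mul_assoc _ _ _
    have hn : (v₀ * (w * c⁻¹)) ^ orderOf c = 1 := by
      rw [← e', conj_pow, pow_orderOf_eq_one, mul_one, mul_inv_cancel]
    rw [hcomm.mul_pow] at hn
    have hpw : ∀ n : ℕ, ∃ z ∈ h.W, (w * c⁻¹) ^ n = z * (c⁻¹) ^ n := by
      intro n
      induction n with
      | zero => exact ⟨1, one_mem _, by simp⟩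
      | succ n ih =>
        obtain ⟨z, hz, hz'⟩ := ih
        refine ⟨w * (c⁻¹ * z * c⁻¹⁻¹), mul_mem hw (conj_mem (inv_mem h.cW) hz), ?_⟩
        rw [pow_succ', hz', pow_succ']
        group
    obtain ⟨z, hz, hz'⟩ := hpw (orderOf c)
    rw [inv_pow, pow_orderOf_eq_one, inv_one, mul_one] at hz'
    have hzc : Commute c z := by
      have h1 : Commute (w * c⁻¹) z := hz' ▸ (Commute.refl _).pow_right _
      have h2 : Commute w⁻¹ z := (h.V_comm (h.W_le_V hw) (h.W_le_V hz)).inv_left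
      have h3 := h2.mul_left h1
      rw [inv_mul_cancel_left] at h3
      simpa using h3.inv_left
    rw [hz', h.W_inf_V0 hz hzc, mul_one] at hn
    obtain ⟨j, hj⟩ := h.pow_two_V hv₀.1
    exact eq_one_of_odd_of_pow_two (Odd.of_dvd_nat h.hodd (orderOf_dvd_of_pow_eq_one hn)) hj
  rw [hv1, mul_one] at e
  obtain ⟨v, hv, rfl⟩ := h.mem_W.mp hw
  have hv' : c * v * c⁻¹ ∈ h.V := conj_mem h.cV hv
  set t := c * v * c⁻¹ * t₀ with htdef
  have htP : t ∈ P := mul_mem (h.hQP (hVQ hv')) ht₀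
  have htQ : t ∉ Q := fun hh => ht₀Q ((Q.mul_mem_cancel_left (hVQ hv')).mp hh)
  have hinv : t * c * t⁻¹ = c⁻¹ := by
    have hvv : c * v * c⁻¹ * (c * v * c⁻¹) = 1 := by rw [← sq]; exact (mem_omC.mp hv').2.2
    calc t * c * t⁻¹ = (c * v * c⁻¹) * (t₀ * c * t₀⁻¹ * c) * (c⁻¹ * (c * v * c⁻¹)⁻¹) := by
          rw [htdef]; group
      _ = (c * v * c⁻¹) * (c * v * c⁻¹ * v⁻¹) * (c⁻¹ * (c * v * c⁻¹)⁻¹) := by rw [e]
      _ = (c * v * c⁻¹ * (c * v * c⁻¹)) * v⁻¹ * (v⁻¹ * c⁻¹) := by group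
      _ = (v * v)⁻¹ * c⁻¹ := by rw [hvv]; group
      _ = c⁻¹ := by rw [← sq, (mem_omC.mp hv).2.2, inv_one, one_mul]
  have htW : t ∈ normalizer (h.W : Set G) := mem_normalizer_of fun x hx => by
    obtain ⟨u, hu, rfl⟩ := h.mem_W.mp hx
    have hu' : c⁻¹ * (t * u * t⁻¹) * c ∈ h.V := conj_mem' h.cV (conj_mem (h.pV htP) hu)
    have hW := h.mem_W.mpr ⟨_, hu', rfl⟩
    have e2 : t * (c * u * c⁻¹ * u⁻¹) * t⁻¹ =
        (c * (c⁻¹ * (t * u * t⁻¹) * c) * c⁻¹ * (c⁻¹ * (t * u * t⁻¹) * c)⁻¹)⁻¹ := by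
      calc t * (c * u * c⁻¹ * u⁻¹) * t⁻¹
          = (t * c * t⁻¹) * (t * u * t⁻¹) * (t * c * t⁻¹)⁻¹ * (t * u * t⁻¹)⁻¹ := by group
        _ = (c * (c⁻¹ * (t * u * t⁻¹) * c) * c⁻¹ * (c⁻¹ * (t * u * t⁻¹) * c)⁻¹)⁻¹ := by
          rw [hinv]; group
    rw [e2]
    exact inv_mem hW
  refine ⟨t, htP, htQ, ?_, hinv, htW⟩
  by_contra ht2
  have ht2Q : t ^ 2 ∈ Q := by
    have hi := h.mul_inv_mem (inv_mem htP) (fun hh => htQ (inv_mem_iff.mp hh)) htP htQ
    rwa [inv_inv, ← sq] at hi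
  have hc2 : Commute c (t ^ 2) := by
    have h1 : t ^ 2 * c * (t ^ 2)⁻¹ = c := by
      calc t ^ 2 * c * (t ^ 2)⁻¹ = t * (t * c * t⁻¹) * t⁻¹ := by rw [sq]; group
        _ = t * c⁻¹ * t⁻¹ := by rw [hinv]
        _ = (t * c * t⁻¹)⁻¹ := by group
        _ = c := by rw [hinv, inv_inv]
    exact (mul_inv_eq_iff_eq_mul.mp h1).symm
  have h20 : t ^ 2 ∈ h.V0 := h.mem_V0_of_commute hnc (hQ.le ht2Q) hc2
  -- every involution of `P` lies in `Q`
  have hinvol : ∀ u ∈ P, u * u = 1 → u ∈ Q := by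
    intro u hu huu
    by_contra huQ
    have hq : u * t⁻¹ ∈ Q := h.mul_inv_mem htP htQ hu huQ
    obtain ⟨x, hx, a, ha, hxa⟩ := h.mem_sup_W_V0 hnc (hQ.le hq)
    have hta : Commute t a := (mem_centralizer_iff.mp ha.2) t (h.hPM htP)
    have haa : a * a = 1 := by rw [← sq]; exact (mem_omC.mp ha.1).2.2
    have hu' : u = x * a * t := by rw [← hxa]; group
    have hmem : x * (t * x * t⁻¹) ∈ h.W := mul_mem hx (conj_mem htW hx)
    have hxa' : Commute (t * x * t⁻¹) a :=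
      h.V_comm (h.W_le_V (conj_mem htW hx)) ha.1
    have e3 : x * (t * x * t⁻¹) = (t ^ 2)⁻¹ := by
      refine eq_inv_of_mul_eq_one_left ?_
      calc x * (t * x * t⁻¹) * t ^ 2 = x * ((t * x * t⁻¹) * (a * a)) * t ^ 2 := by rw [haa, mul_one]
        _ = x * (a * (t * x * t⁻¹) * a) * t ^ 2 := by rw [← mul_assoc (t * x * t⁻¹), hxa'.eq]
        _ = (x * a * t) * x * (t⁻¹ * a * t) * t := by rw [sq]; group
        _ = (x * a * t) * x * a * t := by
          rw [show t⁻¹ * a * t = a by rw [mul_assoc, ← hta.eq, inv_mul_cancel_left]]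
        _ = 1 := by rw [show x * a * t * x * a * t = u * u by rw [hu']; group, huu]
    rw [e3] at hmem
    exact ht2 (h.W_inf_V0 (inv_mem_iff.mp hmem) hc2)
  have hyQ : y ∈ normalizer (Q : Set G) := mem_normalizer_of fun q hq => by
    refine hinvol _ (conj_mem h.hy (h.hQP hq)) ?_
    rw [← sq, conj_pow, (mem_omC.mp (hQ.le hq)).2.2, mul_one, mul_inv_cancel]
  exact h.hne (h.hcore Q h.hQP h.hQn hyQ)

theorem structure_cases (h : Push M P Q c y) (hnc : ¬ ∀ x ∈ Q, Commute c x)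
    (hy2 : y ^ 2 ∈ normalizer (Q : Set G) ∨ Odd (orderOf y)) :
    (∃ ψ : ↥M →* Equiv.Perm (Fin 4), Function.Surjective ψ ∧
      ∀ x : ↥M, x ∈ ψ.ker ↔ ((x : G) ∈ zpowers c ∧ ∀ q ∈ Q, Commute (x : G) q)) ∨
    (∃ ψ : ↥M →* Equiv.Perm (Fin 4) × Multiplicative (ZMod 2), Function.Surjective ψ ∧
      ∀ x : ↥M, x ∈ ψ.ker ↔ ((x : G) ∈ zpowers c ∧ ∀ q ∈ Q, Commute (x : G) q)) := by
  haveI : Fact (Nat.Prime 2) := ⟨Nat.prime_two⟩
  obtain ⟨-, hQ⟩ := h.card_cases hnc hy2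
  obtain ⟨hcZ, hcV, hV0le⟩ := h.card_facts hnc
  obtain ⟨t, htP, htQ, ht2, hinv, htW⟩ := h.exists_inverting hnc hQ
  have hVQ : h.V ≤ Q := omC_le _
  have htM : t ∈ M := h.hPM htP
  have hWM : h.W ≤ M := h.W_le_V.trans (hVQ.trans (h.hQP.trans h.hPM))
  have hV0M : h.V0 ≤ M := (inf_le_left : h.V0 ≤ h.V).trans (hVQ.trans (h.hQP.trans h.hPM))
  have htt : t * t = 1 := by rw [← sq, ht2]
  have htc : ∀ l : ℤ, t * c ^ l = c ^ (-l) * t := fun l => by
    have := conj_zpow (i := l) (a := t) (b := c)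
    rw [hinv, inv_zpow] at this
    rw [zpow_neg, this]; group
  -- the dihedral subgroup
  let D : Subgroup G :=
    { carrier := {x | ∃ k : ℤ, x = c ^ k ∨ x = c ^ k * t}
      one_mem' := ⟨0, Or.inl (zpow_zero c).symm⟩
      mul_mem' := by
        rintro _ _ ⟨k, rfl | rfl⟩ ⟨l, rfl | rfl⟩
        · exact ⟨k + l, Or.inl (zpow_add c k l).symm⟩
        · exact ⟨k + l, Or.inr (by rw [zpow_add, mul_assoc])⟩
        · refine ⟨k + -l, Or.inr ?_⟩
          rw [mul_assoc, htc, ← mul_assoc, zpow_add]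
        · refine ⟨k + -l, Or.inl ?_⟩
          rw [mul_assoc, ← mul_assoc t, htc, mul_assoc _ t t, htt, mul_one, zpow_add]
      inv_mem' := by
        rintro _ ⟨k, rfl | rfl⟩
        · exact ⟨-k, Or.inl (zpow_neg c k).symm⟩
        · refine ⟨k, Or.inr ?_⟩
          rw [_root_.mul_inv_rev, inv_eq_of_mul_eq_one_right htt, ← zpow_neg, htc, neg_neg] }
  have hDM : D ≤ M := by
    rintro _ ⟨k, rfl | rfl⟩
    exacts [zpow_mem h.hcM k, mul_mem (zpow_mem h.hcM k) htM]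
  have hDW : D ≤ normalizer (h.W : Set G) := by
    rintro _ ⟨k, rfl | rfl⟩
    exacts [zpow_mem h.cW k, mul_mem (zpow_mem h.cW k) htW]
  have hDP : ∀ x ∈ D, x ∈ Q → x = 1 := by
    rintro _ ⟨k, rfl | rfl⟩ hx
    · exact h.eq_one_of_zpow_mem (h.hQP hx)
    · exfalso
      have hk : c ^ k ∈ P := by
        have := mul_mem (h.hQP hx) (inv_mem htP)
        rwa [mul_inv_cancel_right] at this
      rw [h.eq_one_of_zpow_mem hk, one_mul] at hx
      exact htQ hx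
  have hdec : ∀ g ∈ M, ∃ w ∈ h.W, ∃ a ∈ h.V0, ∃ x ∈ D, g = a * (w * x) := by
    intro g hg
    obtain ⟨k, u, hu, rfl⟩ := h.hdec g hg
    have hq : ∀ q ∈ Q, ∃ w ∈ h.W, ∃ a ∈ h.V0, c ^ k * q * (c ^ k)⁻¹ = a * w := fun q hq => by
      obtain ⟨w, hw, a, ha, e⟩ := h.mem_sup_W_V0 hnc (hQ.le (conj_mem (zpow_mem h.cQ k) hq))
      exact ⟨w, hw, a, ha, by rw [e, (h.V_comm (h.W_le_V hw) ha.1).eq]⟩
    by_cases huQ : u ∈ Q
    · obtain ⟨w, hw, a, ha, e⟩ := hq u huQ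
      refine ⟨w, hw, a, ha, c ^ k, ⟨k, Or.inl rfl⟩, ?_⟩
      rw [← mul_assoc, ← e]; group
    · obtain ⟨w, hw, a, ha, e⟩ := hq (u * t⁻¹) (h.mul_inv_mem htP htQ hu huQ)
      refine ⟨w, hw, a, ha, c ^ k * t, ⟨k, Or.inr rfl⟩, ?_⟩
      rw [← mul_assoc, ← e]; group
  have hV0c : ∀ {a}, a ∈ h.V0 → ∀ g ∈ M, Commute a g := fun ha g hg =>
    ((mem_centralizer_iff.mp ha.2) g hg).symm
  have hW0 : h.W ⊓ h.V0 = ⊥ := by
    rw [eq_bot_iff]
    rintro w ⟨hw, hw0⟩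
    exact h.W_inf_V0 hw ((mem_centralizer_iff.mp hw0.2) c h.hcM)
  -- the point stabilizer
  set H : Subgroup G := h.V0 ⊔ D with hHdef
  have hDV0 : D ≤ normalizer (h.V0 : Set G) := fun x hx => mem_normalizer_of fun a ha => by
    rw [(hV0c ha x (hDM hx)).symm.eq, mul_inv_cancel_right]; exact ha
  have hHmem : ∀ {g}, g ∈ H ↔ ∃ a ∈ h.V0, ∃ x ∈ D, g = a * x := by
    intro g
    constructor
    · intro hg
      rw [← SetLike.mem_coe, hHdef, coe_mul_of_right_le_normalizer_left h.V0 D hDV0] at hg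
      obtain ⟨a, ha, x, hx, e⟩ := hg
      exact ⟨a, ha, x, hx, e.symm⟩
    · rintro ⟨a, ha, x, hx, rfl⟩
      exact mul_mem_sup ha hx
  have hHM : H ≤ M := sup_le hV0M hDM
  have hHW : ∀ {w}, w ∈ h.W → w ∈ H → w = 1 := fun {w} hw hwH => by
    obtain ⟨a, ha, x, hx, e⟩ := hHmem.mp hwH
    have hxQ : x ∈ Q := by
      rw [show x = a⁻¹ * w by rw [e]; group]
      exact mul_mem (inv_mem (hVQ ha.1)) (hVQ (h.W_le_V hw))
    rw [hDP x hx hxQ, mul_one] at e
    have : w ∈ h.W ⊓ h.V0 := ⟨hw, e ▸ ha⟩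
    rwa [hW0, mem_bot] at this
  let H' : Subgroup ↥M := H.subgroupOf M
  have hidx : Nat.card (↥M ⧸ H') = 4 := by
    rw [← h.card_W hnc]
    refine (Nat.card_congr (Equiv.ofBijective
      (fun w : ↥h.W => ((⟨w, hWM w.2⟩ : ↥M) : ↥M ⧸ H')) ⟨?_, ?_⟩)).symm
    · intro a b hab
      have hm := mem_subgroupOf.mp (QuotientGroup.eq.mp hab)
      exact Subtype.ext (inv_mul_eq_one.mp (hHW (mul_mem (inv_mem a.2) b.2) hm))
    · intro q
      obtain ⟨g, rfl⟩ := QuotientGroup.mk_surjective q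
      obtain ⟨w, hw, a, ha, x, hx, e⟩ := hdec g g.2
      refine ⟨⟨w, hw⟩, QuotientGroup.eq.mpr (mem_subgroupOf.mpr ?_)⟩
      show w⁻¹ * (g : G) ∈ H
      rw [e, show w⁻¹ * (a * (w * x)) = w⁻¹ * (a * w) * x by group,
        ((hV0c ha w (hWM hw))).eq, inv_mul_cancel_left]
      exact hHmem.mpr ⟨a, ha, x, hx, rfl⟩
  let e4 : (↥M ⧸ H') ≃ Fin 4 := (Finite.equivFinOfCardEq hidx)
  let φ : ↥M →* Equiv.Perm (Fin 4) :=
    e4.permCongrHom.toMonoidHom.comp (MulAction.toPermHom ↥M (↥M ⧸ H'))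
  have hker : ∀ g : ↥M, g ∈ φ.ker ↔
      ∃ a ∈ h.V0, ∃ k : ℤ, (g : G) = a * c ^ k ∧ ∀ w ∈ h.W, Commute (c ^ k) w := by
    intro g
    have hcore : g ∈ φ.ker ↔ g ∈ H'.normalCore := by
      rw [Subgroup.normalCore_eq_ker, MonoidHom.mem_ker, MonoidHom.mem_ker]
      exact map_eq_one_iff _ e4.permCongrHom.injective
    rw [hcore]
    constructor
    · intro hg
      obtain ⟨a, ha, x, hx, e⟩ := hHmem.mp (mem_subgroupOf.mp (Subgroup.normalCore_le _ hg))
      have hxW : ∀ w ∈ h.W, Commute x w := by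
        intro w hw
        have h1 := mem_subgroupOf.mp (hg ⟨w, hWM hw⟩)
        simp only [Subgroup.coe_mul, InvMemClass.coe_inv, e] at h1
        have h2 : w * x * w⁻¹ * x⁻¹ ∈ H := by
          rw [show w * x * w⁻¹ * x⁻¹ = a⁻¹ * (w * (a * x) * w⁻¹) * x⁻¹ by
            rw [← mul_assoc w a x, ← (hV0c ha w (hWM hw)).eq]; group]
          exact mul_mem (mul_mem (inv_mem (mem_sup_left ha)) h1) (inv_mem (mem_sup_right hx))
        have h3 : w * x * w⁻¹ * x⁻¹ ∈ h.W := by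
          rw [show w * x * w⁻¹ * x⁻¹ = w * (x * w⁻¹ * x⁻¹) by group]
          exact mul_mem hw (conj_mem (hDW hx) (inv_mem hw))
        exact (commutatorElement_eq_one_iff_commute.mp (hHW h3 h2)).symm
      obtain ⟨k, hk | hk⟩ := hx
      · exact ⟨a, ha, k, hk ▸ e, fun w hw => hk ▸ hxW w hw⟩
      · exfalso
        obtain ⟨w, hw, hw1, -⟩ := h.exists_W hnc
        have hxc : x * c * x⁻¹ = c⁻¹ := by
          rw [hk]
          calc c ^ k * t * c * (c ^ k * t)⁻¹ = c ^ k * (t * c * t⁻¹) * (c ^ k)⁻¹ := by group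
            _ = c⁻¹ := by rw [hinv]; group
        have h4 : c * w * c⁻¹ = c⁻¹ * w * c := by
          calc c * w * c⁻¹ = x * (c * w * c⁻¹) * x⁻¹ := by
                rw [(hxW _ (conj_mem h.cW hw)).eq, mul_inv_cancel_right]
            _ = (x * c * x⁻¹) * (x * w * x⁻¹) * (x * c * x⁻¹)⁻¹ := by group
            _ = c⁻¹ * w * c := by rw [hxc, (hxW w hw).eq, mul_inv_cancel_right, inv_inv]
        refine hw1 (h.W_inf_V0 hw (commute_of_sq h.hodd ?_))
        show c ^ 2 * w = w * c ^ 2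
        calc c ^ 2 * w = c * (c * w * c⁻¹) * c := by rw [sq]; group
          _ = w * c ^ 2 := by rw [h4, sq]; group
    · rintro ⟨a, ha, k, e, hk⟩ b
      rw [mem_subgroupOf]
      obtain ⟨w, hw, a', ha', x, hx, eb⟩ := hdec b b.2
      simp only [Subgroup.coe_mul, InvMemClass.coe_inv, e, eb]
      have hxH : a' * x ∈ H := hHmem.mpr ⟨a', ha', x, hx, rfl⟩
      have hck : c ^ k ∈ D := ⟨k, Or.inl rfl⟩
      have hfix : ∀ w ∈ h.W, Commute (x * c ^ k * x⁻¹) w := fun v hv => by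
        have hv' : x⁻¹ * v * x ∈ h.W := conj_mem' (hDW hx) hv
        have := (Commute.conj_iff x).mpr (hk _ hv')
        rwa [show x * (x⁻¹ * v * x) * x⁻¹ = v by group] at this
      have e' : a' * (w * x) * (a * c ^ k) * (a' * (w * x))⁻¹ = a * (x * c ^ k * x⁻¹) := by
        have ca : ∀ g ∈ M, Commute a g := hV0c ha
        have hgM : a' * (w * x) ∈ M := mul_mem (hV0M ha') (mul_mem (hWM hw) (hDM hx))
        calc a' * (w * x) * (a * c ^ k) * (a' * (w * x))⁻¹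
            = (a' * (w * x) * a) * c ^ k * (a' * (w * x))⁻¹ := by group
          _ = a * (a' * (w * (x * c ^ k * x⁻¹)) * w⁻¹ * a'⁻¹) := by rw [← (ca _ hgM).eq]; group
          _ = a * (a' * (x * c ^ k * x⁻¹) * a'⁻¹) := by rw [← (hfix w hw).eq]; group
          _ = a * (x * c ^ k * x⁻¹) := by
            rw [(hV0c ha' _ (hDM (mul_mem (mul_mem hx hck) (inv_mem hx)))).eq, mul_inv_cancel_right]
      rw [e']
      exact hHmem.mpr ⟨a, ha, _, mul_mem (mul_mem hx hck) (inv_mem hx), rfl⟩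
  have hcw : ∀ {k : ℤ}, (∀ w ∈ h.W, Commute (c ^ k) w) → ∀ q ∈ Q, Commute (c ^ k) q := by
    intro k hk q hq
    obtain ⟨w, hw, a, ha, rfl⟩ := h.mem_sup_W_V0 hnc (hQ.le hq)
    exact (hk w hw).mul_right (hV0c ha _ (zpow_mem h.hcM k)).symm
  have hφsurj : Function.Surjective φ := by
    rw [← MonoidHom.range_eq_top]
    refine eq_top_of_le_card _ ?_
    rw [Nat.card_perm, Nat.card_eq_fintype_card, Fintype.card_fin]
    have hPimg : 8 ∣ Nat.card φ.range := by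
      let P' : Subgroup ↥M := P.subgroupOf M
      have hk0 : (φ.comp P'.subtype).ker = (h.V0.subgroupOf M).subgroupOf P' := by
        ext u
        rw [MonoidHom.mem_ker, mem_subgroupOf, mem_subgroupOf]
        show φ (u : ↥M) = 1 ↔ _
        rw [← MonoidHom.mem_ker, hker]
        constructor
        · rintro ⟨a, ha, k, e, -⟩
          have hck : c ^ k ∈ P := by
            rw [show c ^ k = a⁻¹ * ((u : ↥M) : G) by rw [e]; group]
            exact mul_mem (inv_mem (h.hQP (hVQ ha.1))) (mem_subgroupOf.mp u.2)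
          rw [e, h.eq_one_of_zpow_mem hck, mul_one]
          exact ha
        · intro hu
          exact ⟨_, hu, 0, by rw [zpow_zero, mul_one], fun w _ => by rw [zpow_zero]; exact Commute.one_left w⟩
      have h1 := card_eq_card_quotient_mul_card_subgroup (φ.comp P'.subtype).ker
      rw [Nat.card_congr (QuotientGroup.quotientKerEquivRange (φ.comp P'.subtype)).toEquiv] at h1
      have hle : h.V0.subgroupOf M ≤ P' := fun u hu =>
        mem_subgroupOf.mpr (h.hQP (hVQ (mem_subgroupOf.mp hu).1))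
      rw [hk0, Nat.card_congr (subgroupOfEquivOfLe hle).toEquiv,
        Nat.card_congr (subgroupOfEquivOfLe hV0M).toEquiv,
        Nat.card_congr (subgroupOfEquivOfLe h.hPM).toEquiv, h.card_P,
        congrArg (fun S : Subgroup G => Nat.card S) hQ] at h1
      have h8 : Nat.card (φ.comp P'.subtype).range = 8 := by
        have h1' : 2 * (4 * Nat.card h.V0) = Nat.card (φ.comp P'.subtype).range * Nat.card h.V0 := by
          rw [← hcV]; exact h1
        nlinarith [Nat.card_pos (α := ↥h.V0)]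
      exact h8 ▸ card_dvd_of_le (fun x ⟨u, hu⟩ => ⟨(u : ↥M), hu⟩)
    have hcimg : 3 ∣ Nat.card φ.range := by
      obtain ⟨w, hw, hw1, -⟩ := h.exists_W hnc
      have hne : φ ⟨c, h.hcM⟩ ≠ 1 := fun e => by
        obtain ⟨a, ha, k, e', hk⟩ := (hker _).mp (MonoidHom.mem_ker.mpr e)
        have e'' : c = a * c ^ k := e'
        refine hw1 (h.W_inf_V0 hw ?_)
        rw [e'']
        exact (hV0c ha w (hWM hw)).mul_left (hk w hw)
      have h3 : φ ⟨c, h.hcM⟩ ^ 3 = 1 := by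
        rw [← map_pow, ← MonoidHom.mem_ker, hker]
        refine ⟨1, one_mem _, 3, ?_, fun w hw => ?_⟩
        · rw [one_mul, zpow_ofNat]; rfl
        · rw [zpow_ofNat]; exact h.cube_W hnc hw
      haveI : Fact (Nat.Prime 3) := ⟨Nat.prime_three⟩
      have ho : orderOf (⟨φ ⟨c, h.hcM⟩, ⟨_, rfl⟩⟩ : φ.range) = 3 :=
        orderOf_eq_prime (Subtype.ext h3) fun e => hne (congrArg Subtype.val e)
      exact ho ▸ orderOf_dvd_natCard _
    have h24 : 24 ∣ Nat.card φ.range := Nat.Coprime.mul_dvd_of_dvd_of_dvd (m := 8) (n := 3) (by norm_num) hPimg hcimg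
    exact le_trans (by decide) (Nat.le_of_dvd Nat.card_pos h24)
  have hC0 : ∀ g : ↥M, ((g : G) ∈ zpowers c ∧ ∀ q ∈ Q, Commute (g : G) q) → g ∈ φ.ker := by
    rintro g ⟨hg, hq⟩
    obtain ⟨k, hk⟩ := mem_zpowers_iff.mp hg
    rw [hker]
    exact ⟨1, one_mem _, k, by rw [one_mul, hk], fun w hw => hk ▸ hq w (hVQ (h.W_le_V hw))⟩
  rcases (show Nat.card h.V0 = 1 ∨ Nat.card h.V0 = 2 by
    have : 0 < Nat.card h.V0 := Nat.card_pos
    omega) with h0 | h0
  · left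
    refine ⟨φ, hφsurj, fun g => ⟨fun hg => ?_, hC0 g⟩⟩
    obtain ⟨a, ha, k, e, hk⟩ := (hker g).mp hg
    rw [card_eq_one.mp h0, mem_bot] at ha
    rw [e, ha, one_mul]
    exact ⟨⟨k, rfl⟩, hcw hk⟩
  · right
    set K : Subgroup G := h.W ⊔ D with hKdef
    have hKmem : ∀ {g}, g ∈ K → ∃ w ∈ h.W, ∃ x ∈ D, g = w * x := by
      intro g hg
      rw [← SetLike.mem_coe, hKdef, coe_mul_of_right_le_normalizer_left h.W D hDW] at hg
      obtain ⟨w, hw, x, hx, e⟩ := hg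
      exact ⟨w, hw, x, hx, e.symm⟩
    have hKV0 : ∀ {a}, a ∈ h.V0 → a ∈ K → a = 1 := fun {a} ha haK => by
      obtain ⟨w, hw, x, hx, e⟩ := hKmem haK
      have hxQ : x ∈ Q := by
        rw [show x = w⁻¹ * a by rw [e]; group]
        exact mul_mem (inv_mem (hVQ (h.W_le_V hw))) (hVQ ha.1)
      rw [hDP x hx hxQ, mul_one] at e
      have : a ∈ h.W ⊓ h.V0 := ⟨e ▸ hw, ha⟩
      rwa [hW0, mem_bot] at this
    have hMK : ∀ g ∈ M, ∃ a ∈ h.V0, ∃ u ∈ K, g = a * u := fun g hg => by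
      obtain ⟨w, hw, a, ha, x, hx, e⟩ := hdec g hg
      exact ⟨a, ha, w * x, mul_mem_sup hw hx, e⟩
    haveI hKn : (K.subgroupOf M).Normal := normal_subgroupOf_of_le_normalizer fun g hg => by
      obtain ⟨a, ha, u, hu, rfl⟩ := hMK g hg
      exact mul_mem (mem_normalizer_of fun s hs => by
        rw [(hV0c ha s (sup_le hWM hDM hs)).eq, mul_inv_cancel_right]; exact hs) (le_normalizer hu)
    have hMK2 : Nat.card (↥M ⧸ K.subgroupOf M) = 2 := by
      rw [← h0]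
      refine (Nat.card_congr (Equiv.ofBijective
        (fun a : ↥h.V0 => ((⟨a, hV0M a.2⟩ : ↥M) : ↥M ⧸ K.subgroupOf M)) ⟨?_, ?_⟩)).symm
      · intro a b hab
        have hm := mem_subgroupOf.mp (QuotientGroup.eq.mp hab)
        exact Subtype.ext (inv_mul_eq_one.mp (hKV0 (mul_mem (inv_mem a.2) b.2) hm))
      · intro q
        obtain ⟨g, rfl⟩ := QuotientGroup.mk_surjective q
        obtain ⟨a, ha, u, hu, e⟩ := hMK g g.2
        refine ⟨⟨a, ha⟩, QuotientGroup.eq.mpr (mem_subgroupOf.mpr ?_)⟩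
        show a⁻¹ * (g : G) ∈ K
        rw [e, inv_mul_cancel_left]
        exact hu
    let e2 : (↥M ⧸ K.subgroupOf M) ≃* Multiplicative (ZMod 2) :=
      mulEquivOfPrimeCardEq hMK2 (by simp)
    let χ : ↥M →* Multiplicative (ZMod 2) := e2.toMonoidHom.comp (QuotientGroup.mk' (K.subgroupOf M))
    have hχ : ∀ g, χ g = 1 ↔ (g : G) ∈ K := fun g => by
      rw [← mem_subgroupOf, ← QuotientGroup.eq_one_iff, ← map_eq_one_iff e2 e2.injective]
      rfl
    refine ⟨φ.prod χ, ?_, fun g => ?_⟩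
    · rintro ⟨s, z⟩
      obtain ⟨g, hg⟩ := hφsurj s
      obtain ⟨q, hq⟩ := e2.surjective (z * (χ g)⁻¹)
      obtain ⟨m, rfl⟩ := QuotientGroup.mk_surjective q
      obtain ⟨a, ha, u, hu, e⟩ := hMK m m.2
      refine ⟨⟨a, hV0M ha⟩ * g, Prod.ext ?_ ?_⟩
      · show φ (_ * g) = s
        have hak : (⟨a, hV0M ha⟩ : ↥M) ∈ φ.ker :=
          (hker _).mpr ⟨a, ha, 0, by rw [zpow_zero, mul_one], fun w _ => by rw [zpow_zero]; exact Commute.one_left w⟩
        rw [map_mul, MonoidHom.mem_ker.mp hak, one_mul, hg]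
      · show χ (_ * g) = z
        have hm : χ ⟨a, hV0M ha⟩ = χ m := by
          have hu' : χ ((⟨a, hV0M ha⟩ : ↥M)⁻¹ * m) = 1 := (hχ _).mpr (by
            show a⁻¹ * (m : G) ∈ K
            rw [e, inv_mul_cancel_left]; exact hu)
          rwa [map_mul, map_inv, inv_mul_eq_one] at hu'
        have hq' : χ m = z * (χ g)⁻¹ := hq
        rw [map_mul, hm, hq', inv_mul_cancel_right]
    · rw [MonoidHom.mem_ker, MonoidHom.prod_apply, Prod.mk_eq_one, ← MonoidHom.mem_ker, hker, hχ]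
      constructor
      · rintro ⟨⟨a, ha, k, e, hk⟩, hK⟩
        have haK : a ∈ K := by
          have := mul_mem hK (inv_mem (mem_sup_right (⟨k, Or.inl rfl⟩ : c ^ k ∈ D) : c ^ k ∈ K))
          rwa [e, mul_inv_cancel_right] at this
        rw [e, hKV0 ha haK, one_mul]
        exact ⟨⟨k, rfl⟩, hcw hk⟩
      · intro hg
        refine ⟨(hker g).mp (hC0 g hg), ?_⟩
        obtain ⟨k, hk⟩ := mem_zpowers_iff.mp hg.1
        exact hk ▸ mem_sup_right ⟨k, Or.inl rfl⟩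

end Push

end CfsgLib.DihedralPush
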